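import Cfsg.Agent.Lib.LocalEvenB.JSeven.Offender
import Cfsg.Agent.Lib.Solvable.FrattiniFitting

/-!
Degrees on the chief factors inside the normal `p`-subgroup, for the chosen abelian subgroup of largest order.
-/

set_option autoImplicit false
set_option linter.unusedSectionVars false

namespace CfsgLib.LocalEvenB.JSeven

open scoped commutatorElement
open CfsgLib.KGroups.Functor

variable {G : Type*} [Group G] [Finite G] {p : ℕ} [Fact p.Prime] {S P E A : Subgroup G} (s : Setup p S P E A)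

local notation "ℭ" X:max => Subgroup.centralizer ((X : Subgroup G) : Set G)

include s

theorem exists_bound : ∃ N : ℕ, ∀ l : List G, N ≤ l.length → (∀ a ∈ l, a ∈ A) → ∀ x ∈ S, dlist l x = 1 := by
  haveI : Group.IsNilpotent S := s.pgroup.isNilpotent
  obtain ⟨N, hN⟩ := exists_dlist_eq_one S
  exact ⟨N, fun l hl hlA => hN l hl fun a ha => s.A_le (hlA a ha)⟩

theorem dlist_fixed {f : G} (hf : f ∈ A) {l : List G} (hl : ∀ a ∈ l, a ∈ A) (hne : l ≠ []) : dlist l f = 1 := by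
  induction l with
  | nil => exact absurd rfl hne
  | cons a l ih =>
    rw [dlist_cons]
    cases l with
    | nil => exact dl_eq_one_of_mem_inf s (hl a List.mem_cons_self) hf
    | cons b m => rw [ih (fun c hc => hl c (List.mem_cons_of_mem _ hc)) (by simp), dl_one]

theorem dlist_commute {U : Subgroup G} (hU : Amb A P U) {b c : G} (hb : b ∈ U) (hc : c ∈ A) {l : List G}
    (hl : ∀ a ∈ l, a ∈ A) : dl c (dlist l b) = dlist l (dl c b) := by
  induction l with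
  | nil => rfl
  | cons a l ih =>
    have hl' : ∀ d ∈ l, d ∈ A := fun d hd => hl d (List.mem_cons_of_mem _ hd)
    rw [dlist_cons, dlist_cons, dl_commute s hU (dlist_mem (fun d hd => hU.norm (hl' d hd)) hb)
      (hl a List.mem_cons_self) hc, ih hl']

/-- An element of an abelian `A`-invariant subgroup that is a product of its own differences is fixed modulo `N`. -/
theorem absorb {U N : Subgroup G} (hU : Amb A P U) (hNU : N ≤ U) (hN : A ≤ Subgroup.normalizer (N : Set G))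
    {b : G} (hb : b ∈ U)
    (h : b ∈ Subgroup.closure {g | ∃ v : List G, v ≠ [] ∧ (∀ a ∈ v, a ∈ A) ∧ g = dlist v b} ⊔ ((A ⊓ U) ⊔ N)) :
    ∀ a ∈ A, dl a b ∈ N := by
  intro a ha
  by_contra hab
  obtain ⟨K, hK⟩ := exists_bound s
  obtain ⟨w, ⟨hwA, hwb⟩, hw1, hmax⟩ := exists_max_list (N := K) (k₀ := 1)
    (fun l => (∀ d ∈ l, d ∈ A) ∧ dlist l b ∉ N)
    (fun l hl hc => hc.2 (hK l hl hc.1 b (s.P_le (hU.le hb)) ▸ one_mem N))
    (l₀ := [a]) ⟨by simpa using ha, by simpa using hab⟩ (by simp)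
  have habU : ∀ x ∈ U, ∀ y ∈ U, x * y = y * x := fun x hx y hy => comm_of_le hU.ab hx hy
  have hwn : ∀ d ∈ w, d ∈ Subgroup.normalizer (U : Set G) := fun d hd => hU.norm (hwA d hd)
  let K' : Subgroup G :=
    { carrier := {u | u ∈ U ∧ dlist w u ∈ N}
      one_mem' := ⟨one_mem _, by rw [dlist_one]; exact one_mem _⟩
      mul_mem' := fun {x y} hx hy => ⟨U.mul_mem hx.1 hy.1, by
        rw [dlist_mul habU hwn hx.1 hy.1]; exact N.mul_mem hx.2 hy.2⟩
      inv_mem' := fun {x} hx => ⟨U.inv_mem hx.1, by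
        rw [dlist_inv habU hwn hx.1]; exact N.inv_mem hx.2⟩ }
  refine hwb ((?_ : b ∈ K').2)
  refine (sup_le ((Subgroup.closure_le _).mpr ?_) (sup_le ?_ ?_)) h
  · rintro _ ⟨v, hv, hvA, rfl⟩
    refine ⟨dlist_mem (fun d hd => hU.norm (hvA d hd)) hb, ?_⟩
    rw [← dlist_append]
    by_contra hcon
    refine hmax (w ++ v) ?_ ⟨fun d hd => (List.mem_append.mp hd).elim (hwA d) (hvA d), hcon⟩
    have := List.length_pos_of_ne_nil hv
    simp; omega
  · intro f hf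
    refine ⟨hf.2, ?_⟩
    rw [dlist_fixed s hf.1 hwA (List.ne_nil_of_length_pos (by omega))]
    exact one_mem _
  · exact fun u hu => ⟨hNU hu, dlist_mem (fun d hd => hN (hwA d hd)) hu⟩

/-- A third difference on `E` is a second difference along an element of `P`. -/
theorem cubic_rel {b a₁ a₂ a₃ : G} (hb : b ∈ E) (h₁ : a₁ ∈ A) (h₂ : a₂ ∈ A) (h₃ : a₃ ∈ A)
    (hne : dlist [a₁, a₂, a₃] b ≠ 1) :
    ∃ c ∈ A, c ∈ P ∧ dlist [a₁, a₂, a₃] b = dl a₁ (dl c b) := by
  have hE := amb_E s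
  have habE : ∀ x ∈ E, ∀ y ∈ E, x * y = y * x := fun x hx y hy => comm_of_le hE.ab hx hy
  have hmem : ∀ {d x : G}, d ∈ A → x ∈ E → dl d x ∈ E := fun hd hx => dl_mem (hE.norm hd) hx
  obtain ⟨c, hc, f, hf, hcf⟩ := (eq_Mb s hE hb).2 _ (dl_dl_mem_Mb (U := E) (b := b) h₂ h₃)
  refine ⟨c, hc, ?_, ?_⟩
  · obtain ⟨K, hK⟩ := exists_bound s
    obtain ⟨l, ⟨hlA, hlb⟩, hl3, hmax⟩ := exists_max_list (N := K) (k₀ := 3)
      (fun l => (∀ d ∈ l, d ∈ A) ∧ dlist l b ≠ 1)
      (fun l hl hc => hc.2 (hK l hl hc.1 b (s.P_le (s.E_le hb))))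
      (l₀ := [a₁, a₂, a₃]) ⟨by simp [h₁, h₂, h₃], hne⟩ le_rfl
    match l, hlA, hlb, hl3, hmax with
    | a :: a' :: v, hlA, hlb, hl3, hmax =>
    have ha : a ∈ A := hlA a List.mem_cons_self
    have ha' : a' ∈ A := hlA a' (List.mem_cons_of_mem _ List.mem_cons_self)
    have hv : ∀ d ∈ v, d ∈ A := fun d hd => hlA d (List.mem_cons_of_mem _ (List.mem_cons_of_mem _ hd))
    have hu : dlist v b ∈ E := dlist_mem (fun d hd => hE.norm (hv d hd)) hb
    have hCP : A ⊓ ℭ (Mb A E (dlist v b)) ≤ P := by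
      by_contra hC
      refine hlb ?_
      have h := cover_eq s hE le_rfl inf_le_right (eq_Mb s hE hu).1 hC
      have hm : dl a' (dlist v b) ∈ A ⊓ E := h ▸ dl_mem_Mb ha'
      rw [dlist_cons, dlist_cons, dl_eq_one_of_mem_inf s ha hm.1]
    refine hCP (mem_centralizer_Mb s hE hu hc fun d hd => ?_)
    have hdv : ∀ e ∈ d :: v, e ∈ A := by simpa using ⟨hd, hv⟩
    rw [← dlist_cons, dlist_commute s hE hb hc hdv]
    have e : dl c b = dl a₂ (dl a₃ b) * f⁻¹ := by rw [hcf, mul_inv_cancel_right]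
    rw [e, dlist_mul habE (fun e he => hE.norm (hdv e he)) (hmem h₂ (hmem h₃ hb)) (E.inv_mem hf.2),
      dlist_fixed s (A.inv_mem hf.1) hdv (by simp), mul_one]
    by_contra hcon
    refine hmax ((d :: v) ++ [a₂, a₃]) (by simp) ⟨?_, by simpa [dlist_append] using hcon⟩
    intro e he
    rcases List.mem_append.mp he with he | he
    · exact hdv e he
    · simp at he; rcases he with rfl | rfl <;> assumption
  · show dl a₁ (dl a₂ (dl a₃ b)) = _
    rw [hcf, dl_mul_of_commute (habE _ hf.2 _ (hmem h₁ (hmem hc hb))), dl_eq_one_of_mem_inf s h₁ hf.1, mul_one]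

/-- Degree three on the sections of `E` centralized by `P`. -/
theorem cubic_section {U V : Subgroup G} [U.Normal] [V.Normal] (hUP : ∀ q ∈ P, ∀ x ∈ U, dl q x ∈ V) {b : G}
    (hbE : b ∈ E) (hbU : b ∈ U) {a₁ a₂ a₃ : G} (h₁ : a₁ ∈ A) (h₂ : a₂ ∈ A) (h₃ : a₃ ∈ A) :
    dlist [a₁, a₂, a₃] b ∈ V := by
  by_cases hne : dlist [a₁, a₂, a₃] b = 1
  · rw [hne]; exact one_mem V
  obtain ⟨c, -, hcP, e⟩ := cubic_rel s hbE h₁ h₂ h₃ hne
  rw [e]
  exact dl_mem (mem_normalizer_of_normal a₁) (hUP c hcP b hbU)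

/-- Either `A` is quadratic on `E`, or only elements of `P` centralize `[E, A]`. -/
theorem dichotomy :
    (∀ b ∈ E, ∀ a ∈ A, ∀ a' ∈ A, dl a (dl a' b) = 1) ∨
      ∀ c ∈ A, (∀ e ∈ E, ∀ a ∈ A, dl c (dl a e) = 1) → c ∈ P := by
  have hE := amb_E s
  obtain ⟨M, hM, hTM, hMle⟩ := exists_big s hE (T := (E : Set G)) (fun _ h => h)
  by_cases hC : A ⊓ ℭ M ≤ P
  · refine Or.inr fun c hc h => hC ⟨hc, ?_⟩
    refine Subgroup.centralizer_le hMle ?_
    rw [centralizer_sup']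
    refine ⟨?_, Subgroup.le_centralizer_iff.mp ((inf_le_left : A ⊓ E ≤ A).trans s.A_ab) hc⟩
    show c ∈ Subgroup.centralizer ((Subgroup.closure {g | ∃ a ∈ A, ∃ b ∈ (E : Set G), g = dl a b} : Subgroup G) : Set G)
    rw [Subgroup.centralizer_closure, Subgroup.mem_centralizer_iff]
    rintro _ ⟨a, ha, b, hb, rfl⟩
    exact (mul_inv_eq_iff_eq_mul.mp (dl_eq_one_iff.mp (h b hb a ha))).symm
  · refine Or.inl fun b hb a ha a' ha' => ?_
    have h := cover_eq s hE le_rfl inf_le_right hM hC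
    have hm : dl a' b ∈ A ⊓ E := h ▸ hTM b hb (dl_mem_Mb ha')
    exact dl_eq_one_of_mem_inf s ha hm.1

/-- `A` is quadratic on the elements of `E` centralized by `P`. -/
theorem central_quad {b : G} (hb : b ∈ E) (hq : ∀ q ∈ P, dl q b = 1) {a a' : G} (ha : a ∈ A) (ha' : a' ∈ A) :
    dl a (dl a' b) = 1 := by
  have hE := amb_E s
  have h := eq_Mb s hE hb
  by_cases hC : A ⊓ ℭ (Mb A E b) ≤ P
  · have hmem : b ∈ Mb A E b := lever s hE h.1 hb fun c hc =>
      mul_inv_eq_iff_eq_mul.mp (dl_eq_one_iff.mp (hq c (hC hc)))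
    have hle : Mb A E b ≤ Subgroup.closure {g | ∃ v : List G, v ≠ [] ∧ (∀ d ∈ v, d ∈ A) ∧ g = dlist v b} ⊔
        ((A ⊓ E) ⊔ ⊥) := by
      refine sup_le_sup (Subgroup.closure_mono ?_) le_sup_left
      rintro _ ⟨d, hd, rfl⟩
      exact ⟨[d], by simp, by simpa using hd, rfl⟩
    have := absorb s hE bot_le (fun d _ => mem_normalizer_of_normal d) hb (hle hmem) a' ha'
    rw [Subgroup.mem_bot.mp this, dl_one]
  · have h' := cover_eq s hE le_rfl inf_le_right h.1 hC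
    have hm : dl a' b ∈ A ⊓ E := h' ▸ dl_mem_Mb ha'
    exact dl_eq_one_of_mem_inf s ha hm.1

omit s

/-- The elements of `C_P(E)` central in `P/E`. -/
def Cc (P E : Subgroup G) : Subgroup G :=
  { carrier := {x | x ∈ P ⊓ ℭ E ∧ ∀ q ∈ P, q * x * q⁻¹ * x⁻¹ ∈ E}
    one_mem' := ⟨one_mem _, fun q _ => by simp⟩
    mul_mem' := by
      rintro x y ⟨hx, hx'⟩ ⟨hy, hy'⟩
      refine ⟨mul_mem hx hy, fun q hq => ?_⟩
      have hc : x * (q * y * q⁻¹ * y⁻¹) * x⁻¹ = q * y * q⁻¹ * y⁻¹ := by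
        rw [← Subgroup.mem_centralizer_iff.mp hx.2 _ (hy' q hq), mul_inv_cancel_right]
      have e : q * (x * y) * q⁻¹ * (x * y)⁻¹ = (q * x * q⁻¹ * x⁻¹) * (x * (q * y * q⁻¹ * y⁻¹) * x⁻¹) := by
        simp [mul_assoc]
      rw [e, hc]
      exact E.mul_mem (hx' q hq) (hy' q hq)
    inv_mem' := by
      rintro x ⟨hx, hx'⟩
      refine ⟨inv_mem hx, fun q hq => ?_⟩
      have hc : x⁻¹ * (q * x * q⁻¹ * x⁻¹)⁻¹ * x = (q * x * q⁻¹ * x⁻¹)⁻¹ := by
        have h := Subgroup.mem_centralizer_iff.mp hx.2 _ (E.inv_mem (hx' q hq))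
        rw [mul_assoc, h, inv_mul_cancel_left]
      have e : q * x⁻¹ * q⁻¹ * x⁻¹⁻¹ = x⁻¹ * (q * x * q⁻¹ * x⁻¹)⁻¹ * x := by simp [mul_assoc]
      rw [e, hc]
      exact E.inv_mem (hx' q hq) }

include s

theorem Cc_normal : (Cc P E).Normal := by
  haveI := s.P_normal
  haveI := s.E_normal
  refine ⟨fun x hx g => ⟨(inferInstance : (P ⊓ ℭ E).Normal).conj_mem x hx.1 g, fun q hq => ?_⟩⟩
  have := s.E_normal.conj_mem _ (hx.2 (g⁻¹ * q * g) (by simpa using s.P_normal.conj_mem q hq g⁻¹)) g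
  simpa [mul_assoc] using this

theorem Cc_comm {x : G} (hx : x ∈ Cc P E) {e : G} (he : e ∈ E) : x * e = e * x :=
  (Subgroup.mem_centralizer_iff.mp hx.1.2 e he).symm

theorem dl_P {x : G} (hx : x ∈ Cc P E) {q : G} (hq : q ∈ P) : dl q x ∈ E := by
  have h := hx.2 q hq
  have e : dl q x = x⁻¹ * (q * x * q⁻¹ * x⁻¹) * x := by simp [dl, mul_assoc]
  rw [e, mul_assoc, ← Cc_comm s hx h, inv_mul_cancel_left]
  exact h

theorem dlist_Cc {x : G} (hx : x ∈ Cc P E) (l : List G) : dlist l x ∈ Cc P E :=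
  haveI := Cc_normal s
  dlist_mem (fun a _ => mem_normalizer_of_normal a) hx

theorem comm_Cc {y z : G} (hy : y ∈ Cc P E) (hz : z ∈ Cc P E) : ⁅y, z⁆ ∈ E :=
  hz.2 y hy.1.1

theorem central_value {y z : G} (hy : y ∈ Cc P E) (hz : z ∈ Cc P E) {q : G} (hq : q ∈ P) : dl q ⁅y, z⁆ = 1 := by
  rw [dl_eq_one_iff]
  have hy' := conj_eq q y
  have hz' := conj_eq q z
  have e : q * ⁅y, z⁆ * q⁻¹ = ⁅q * y * q⁻¹, q * z * q⁻¹⁆ := by simp [commutatorElement_def, mul_assoc]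
  rw [e, hy', hz', commutatorElement_def, commutatorElement_def]
  set d := dl q y
  set d' := dl q z
  have hd : d ∈ E := dl_P s hy hq
  have hd' : d' ∈ E := dl_P s hz hq
  have c1 : d * (z * d') = z * d' * d := by
    have h : d * z = z * d := (Cc_comm s hz hd).symm
    rw [← mul_assoc, h, mul_assoc, comm_of_le s.E_ab hd hd', mul_assoc]
  have c2 : d' * y⁻¹ = y⁻¹ * d' := (Cc_comm s ((Cc P E).inv_mem hy) hd').symm
  calc y * d * (z * d') * (y * d)⁻¹ * (z * d')⁻¹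
      = y * (d * (z * d')) * d⁻¹ * y⁻¹ * (d'⁻¹ * z⁻¹) := by simp [mul_assoc]
    _ = y * z * (d' * y⁻¹) * d'⁻¹ * z⁻¹ := by rw [c1]; simp [mul_assoc]
    _ = _ := by rw [c2]; simp [mul_assoc]

theorem comm_dl {a y z : G} (hy : y ∈ Cc P E) (hz : z ∈ Cc P E) :
    ⁅dl a y, z⁆ = dl a ⁅y, z⁆ * (a * ⁅y, dl a⁻¹ z⁆ * a⁻¹) := by
  haveI := Cc_normal s
  have hd : dl a y ∈ Cc P E := dlist_Cc s hy [a]
  have hd' : dl a⁻¹ z ∈ Cc P E := dlist_Cc s hz [a⁻¹]
  have hE : ∀ {u v : G}, u ∈ Cc P E → v ∈ E → u * v * u⁻¹ = v := fun hu hv => by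
    rw [Cc_comm s hu hv, mul_inv_cancel_right]
  -- conjugate `⁅y, z ^ a⁻¹⁆` by `a`
  have e1 : a * ⁅y, z * dl a⁻¹ z⁆ * a⁻¹ = ⁅y * dl a y, z⁆ := by
    rw [← conj_eq, ← conj_eq]; simp [commutatorElement_def, mul_assoc]
  have e2 : ⁅y, z * dl a⁻¹ z⁆ = ⁅y, z⁆ * (z * ⁅y, dl a⁻¹ z⁆ * z⁻¹) := by simp [commutatorElement_def, mul_assoc]
  have e3 : ⁅y * dl a y, z⁆ = y * ⁅dl a y, z⁆ * y⁻¹ * ⁅y, z⁆ := by simp [commutatorElement_def, mul_assoc]
  rw [e2, hE hz (comm_Cc s hy hd'), e3, hE hy (comm_Cc s hd hz),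
    comm_of_le s.E_ab (comm_Cc s hd hz) (comm_Cc s hy hz)] at e1
  have e4 : ⁅dl a y, z⁆ = ⁅y, z⁆⁻¹ * (a * (⁅y, z⁆ * ⁅y, dl a⁻¹ z⁆) * a⁻¹) := by
    rw [e1, inv_mul_cancel_left]
  rw [e4]
  generalize ⁅y, z⁆ = u
  generalize ⁅y, dl a⁻¹ z⁆ = u'
  simp [dl, mul_assoc]

/-- The commutator pairing on `C` multiplies differences. -/
theorem pair_lists : ∀ (m : ℕ) (z : G), z ∈ Cc P E →
    (∀ l : List G, l.length = m → (∀ d ∈ l, d ∈ A) → dlist l z ∈ E) →
    ∀ y ∈ Cc P E, ∀ w : List G, (∀ d ∈ w, d ∈ A) →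
      (m ≤ w.length → ∀ a ∈ A, dl a ⁅dlist w y, z⁆ = 1) ∧ (m + 1 ≤ w.length → ⁅dlist w y, z⁆ = 1) := by
  intro m
  induction m with
  | zero =>
    intro z hz h y hy w hw
    have hzE : z ∈ E := h [] rfl (by simp)
    have h1 : ⁅dlist w y, z⁆ = 1 := commutatorElement_eq_one_iff_mul_comm.mpr (Cc_comm s (dlist_Cc s hy w) hzE)
    exact ⟨fun _ a _ => by rw [h1, dl_one], fun _ => h1⟩
  | succ m ih =>
    intro z hz h y hy w hw
    induction w with
    | nil => exact ⟨fun hle => absurd hle (by simp), fun hle => absurd hle (by simp)⟩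
    | cons a w ihw =>
      have hw' : ∀ d ∈ w, d ∈ A := fun d hd => hw d (List.mem_cons_of_mem _ hd)
      have ha : a ∈ A := hw a List.mem_cons_self
      obtain ⟨ihw1, -⟩ := ihw hw'
      have hy' := dlist_Cc s hy w
      have hd : dl a⁻¹ z ∈ Cc P E := dlist_Cc s hz [a⁻¹]
      obtain ⟨ih1, ih2⟩ := ih (dl a⁻¹ z) hd (fun l hl hlA => by
        have := h (l ++ [a⁻¹]) (by simp [hl]) (fun d hd => by
          rcases List.mem_append.mp hd with hd | hd
          · exact hlA d hd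
          · rw [List.mem_singleton.mp hd]; exact A.inv_mem ha)
        simpa [dlist_append] using this) y hy w hw'
      rw [dlist_cons, comm_dl s hy' hz]
      have hv := comm_Cc s hy' hz
      have hv' := comm_Cc s hy' hd
      refine ⟨fun hle b hb => ?_, fun hle => ?_⟩
      · simp only [List.length_cons] at hle
        have hfix := ih1 (by omega) a ha
        rw [dl_eq_one_iff] at hfix
        haveI := s.E_normal
        rw [hfix, dl_mul_of_commute (comm_of_le s.E_ab hv' (dl_mem (mem_normalizer_of_normal b)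
          (dl_mem (mem_normalizer_of_normal a) hv))),
          central_quad s hv (fun q hq => central_value s hy' hz hq) hb ha, ih1 (by omega) b hb, mul_one]
      · simp only [List.length_cons] at hle
        rw [ihw1 (by omega) a ha, ih2 (by omega), one_mul, mul_one, mul_inv_cancel]

theorem dlist_commute_Cc {x c : G} (hx : x ∈ Cc P E) (hc : c ∈ A) (hcP : c ∈ P) {l : List G}
    (hl : ∀ a ∈ l, a ∈ A) : dl c (dlist l x) = dlist l (dl c x) := by
  induction l with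
  | nil => rfl
  | cons a l ih =>
    have hl' : ∀ d ∈ l, d ∈ A := fun d hd => hl d (List.mem_cons_of_mem _ hd)
    rw [dlist_cons, dlist_cons, dl_comm (comm_of_le s.A_ab (hl a List.mem_cons_self) hc) ?_, ih hl']
    exact (Cc_comm s (dlist_Cc s hx (a :: l)) (dl_P s (dlist_Cc s hx l) hcP)).symm

/-- Centralizers of `[E, A]` in `A ∩ P` send `C` into the part of degree three. -/
theorem kill {x c : G} (hx : x ∈ Cc P E) (hc : c ∈ A) (hcP : c ∈ P)
    (h : ∀ e ∈ E, ∀ a ∈ A, dl c (dl a e) = 1) {a₁ a₂ a₃ : G} (h₁ : a₁ ∈ A) (h₂ : a₂ ∈ A) (h₃ : a₃ ∈ A) :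
    dlist [a₁, a₂, a₃] (dl c x) = 1 := by
  by_contra hne
  obtain ⟨c', hc', hc'P, e⟩ := cubic_rel s (dl_P s hx hcP) h₁ h₂ h₃ hne
  refine hne ?_
  rw [e, ← dl_comm (comm_of_le s.A_ab hc' hc) (comm_of_le s.E_ab (dl_P s hx hcP) (dl_P s hx hc'P)),
    ← dl_commute s (amb_E s) (dl_P s hx hc'P) h₁ hc]
  exact h _ (dl_P s hx hc'P) _ h₁

theorem orbit_absurd {x : G} (hx : x ∈ Cc P E) {n : ℕ}
    (hn : ∀ l : List G, l.length = n + 1 → (∀ d ∈ l, d ∈ A) → dlist l x ∈ E)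
    {w : List G} (hw : ∀ d ∈ w, d ∈ A) (hk : n + 1 ≤ 2 * w.length) (hk' : w.length ≤ n)
    (hkill : ∀ M : Subgroup G, (∀ a ∈ A, dl a (dlist w x) ∈ M) → (∀ e ∈ E, ∀ a ∈ A, dl a e ∈ M) →
      ((¬ A ⊓ ℭ M ≤ P → (A ⊓ ℭ M) ⊔ P = A ⊔ P)) → ∀ c ∈ A ⊓ ℭ M, dl c (dlist w x) = 1) :
    ∀ a ∈ A, dl a (dlist w x) ∈ E := by
  haveI := s.E_normal
  haveI := Cc_normal s
  set b := dlist w x with hb
  have hbC : b ∈ Cc P E := dlist_Cc s hx w
  let O : Set G := {g | ∃ v : List G, (∀ d ∈ v, d ∈ A) ∧ g = dlist v b}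
  set U : Subgroup G := E ⊔ Subgroup.closure O with hUdef
  have hO : ∀ g ∈ O, g ∈ Cc P E := by rintro _ ⟨v, -, rfl⟩; exact dlist_Cc s hbC v
  have hOC : Subgroup.closure O ≤ Cc P E := (Subgroup.closure_le _).mpr hO
  have hone : ∀ v : List G, (∀ d ∈ v, d ∈ A) → v ≠ [] → ∀ v' : List G, (∀ d ∈ v', d ∈ A) →
      ⁅dlist v b, dlist v' b⁆ = 1 := by
    intro v hv hvne v' hv'
    rw [hb, ← dlist_append v w]
    refine (pair_lists s (n + 1 - w.length) _ (dlist_Cc s hbC v') ?_ x hx (v ++ w)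
      (fun d hd => (List.mem_append.mp hd).elim (hv d) (hw d))).2 ?_
    · intro l hl hlA
      rw [hb, ← dlist_append, ← dlist_append]
      have hall : ∀ d ∈ l ++ v' ++ w, d ∈ A := fun d hd => by
        rcases List.mem_append.mp hd with hd | hd
        · exact (List.mem_append.mp hd).elim (hlA d) (hv' d)
        · exact hw d hd
      have hlen : n + 1 ≤ (l ++ v' ++ w).length := by simp; omega
      rw [← List.take_append_drop ((l ++ v' ++ w).length - (n + 1)) (l ++ v' ++ w), dlist_append]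
      exact dlist_mem (fun d _ => mem_normalizer_of_normal d) (hn _ (by simp; omega)
        (fun d hd => hall d (List.mem_of_mem_drop hd)))
    · have := List.length_pos_of_ne_nil hvne
      simp; omega
  have hcomm : ∀ g ∈ O, ∀ g' ∈ O, g * g' = g' * g := by
    rintro _ ⟨v, hv, rfl⟩ _ ⟨v', hv', rfl⟩
    rcases v.eq_nil_or_concat with rfl | hvne
    · rcases v'.eq_nil_or_concat with rfl | hvne'
      · rfl
      · exact (commutatorElement_eq_one_iff_mul_comm.mp (hone v' hv' (by obtain ⟨_, _, rfl⟩ := hvne'; simp) [] hv)).symm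
    · exact commutatorElement_eq_one_iff_mul_comm.mp (hone v hv (by obtain ⟨_, _, rfl⟩ := hvne; simp) v' hv')
  have hU : Amb A P U := by
    refine ⟨sup_le s.E_le (hOC.trans fun g hg => hg.1.1), sup_abelian s.E_ab ?_ ?_, fun a ha => ?_⟩
    · rw [Subgroup.centralizer_closure, Subgroup.closure_le]
      intro g hg
      rw [SetLike.mem_coe, Subgroup.mem_centralizer_iff]
      exact fun g' hg' => hcomm g' hg' g hg
    · exact Subgroup.le_centralizer_iff.mp (hOC.trans fun g hg => hg.1.2)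
    · rw [Subgroup.mem_normalizer_iff_map_conj_eq]
      refine Subgroup.eq_of_le_of_card_ge ?_ (le_of_eq (Subgroup.card_map_of_injective (MulAut.conj a).injective).symm)
      rw [Subgroup.map_le_iff_le_comap]
      refine sup_le (fun e he => Subgroup.mem_sup_left (s.E_normal.conj_mem e he a)) ((Subgroup.closure_le _).mpr ?_)
      rintro _ ⟨v, hv, rfl⟩
      show a * dlist v b * a⁻¹ ∈ U
      rw [conj_eq, ← dlist_cons]
      exact Subgroup.mem_sup_right ((Subgroup.closure O).mul_mem (Subgroup.subset_closure ⟨v, hv, rfl⟩)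
        (Subgroup.subset_closure ⟨a :: v, by simpa using ⟨ha, hv⟩, rfl⟩))
  have hbU : b ∈ U := Subgroup.mem_sup_right (Subgroup.subset_closure ⟨[], by simp, rfl⟩)
  have hT : insert b (E : Set G) ⊆ U := Set.insert_subset hbU fun e he => Subgroup.mem_sup_left he
  obtain ⟨M, hM, hTM, hMle⟩ := exists_big s hU hT
  have hbM : b ∈ M := lever s hU hM hbU fun c hc =>
    mul_inv_eq_iff_eq_mul.mp (dl_eq_one_iff.mp (hkill M (fun a ha => hTM b (Set.mem_insert _ _) (dl_mem_Mb ha))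
      (fun e he a ha => hTM e (Set.mem_insert_of_mem _ he) (dl_mem_Mb ha))
      (fun hC => sup_eq s hU hM hC) c hc))
  refine absorb s hU le_sup_left (fun a _ => mem_normalizer_of_normal a) hbU ?_
  refine (hMle.trans (sup_le ((Subgroup.closure_le _).mpr ?_) (le_sup_of_le_right le_sup_left))) hbM
  rintro _ ⟨a, ha, g, hg, rfl⟩
  rcases Set.mem_insert_iff.mp hg with rfl | hg
  · exact Subgroup.mem_sup_left (Subgroup.subset_closure ⟨[a], by simp, by simpa using ha, rfl⟩)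
  · exact Subgroup.mem_sup_right (Subgroup.mem_sup_right (dl_mem (mem_normalizer_of_normal a) hg))

end CfsgLib.LocalEvenB.JSeven
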