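import Cfsg.Agent.Lib.KGroups.Functor.PairDegree
import Mathlib.GroupTheory.Nilpotent

/-!
Iterated conjugation differences, and degrees on chief factors.
-/

set_option autoImplicit false
set_option linter.unusedSectionVars false

namespace CfsgLib.LocalEvenB.JSeven

open scoped commutatorElement
open CfsgLib.KGroups.Functor

variable {G : Type*} [Group G] {H : Type*} [Group H]

/-- `dl a x = x⁻¹ (a x a⁻¹)`. -/
def dl (a x : G) : G := x⁻¹ * (a * x * a⁻¹)

/-- The iterated difference along a list, applied from the right. -/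
def dlist (l : List G) (x : G) : G := l.foldr dl x

@[simp] theorem dlist_nil (x : G) : dlist [] x = x := rfl

@[simp] theorem dlist_cons (a : G) (l : List G) (x : G) : dlist (a :: l) x = dl a (dlist l x) := rfl

theorem dlist_append (l m : List G) (x : G) : dlist (l ++ m) x = dlist l (dlist m x) := by
  simp [dlist, List.foldr_append]

@[simp] theorem dl_one (a : G) : dl a 1 = 1 := by simp [dl]

theorem conj_eq (a x : G) : a * x * a⁻¹ = x * dl a x := by simp [dl, mul_assoc]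

theorem dl_eq_one_iff {a x : G} : dl a x = 1 ↔ a * x * a⁻¹ = x := by
  rw [dl, inv_mul_eq_one, eq_comm]

theorem dl_mem {N : Subgroup G} {a x : G} (ha : a ∈ Subgroup.normalizer (N : Set G)) (hx : x ∈ N) :
    dl a x ∈ N := N.mul_mem (N.inv_mem hx) ((Subgroup.mem_normalizer_iff.1 ha x).1 hx)

theorem dlist_mem {N : Subgroup G} {l : List G} (hl : ∀ a ∈ l, a ∈ Subgroup.normalizer (N : Set G)) {x : G}
    (hx : x ∈ N) : dlist l x ∈ N := by
  induction l with
  | nil => simpa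
  | cons a l ih =>
    rw [dlist_cons]
    exact dl_mem (hl a List.mem_cons_self) (ih fun b hb => hl b (List.mem_cons_of_mem _ hb))

theorem mem_normalizer_of_normal {N : Subgroup G} [N.Normal] (a : G) : a ∈ Subgroup.normalizer (N : Set G) := by
  rw [Subgroup.normalizer_eq_top]; trivial

theorem dl_mul (a x y : G) : dl a (x * y) = y⁻¹ * dl a x * y * dl a y := by simp [dl, mul_assoc]

theorem dl_mul_of_commute {a x y : G} (h : y * dl a x = dl a x * y) : dl a (x * y) = dl a x * dl a y := by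
  rw [dl_mul, mul_assoc y⁻¹ (dl a x) y, ← h, inv_mul_cancel_left]

theorem dl_mul_left (a b x : G) : dl (a * b) x = dl a x * (a * dl b x * a⁻¹) := by simp [dl, mul_assoc]

/-- Differences along commuting elements commute. -/
theorem dl_comm {a c x : G} (hac : a * c = c * a) (h : dl c x * dl a x = dl a x * dl c x) :
    dl c (dl a x) = dl a (dl c x) := by
  have hs : c⁻¹ * a = a * c⁻¹ := by rw [inv_mul_eq_iff_eq_mul, ← mul_assoc, ← hac, mul_inv_cancel_right]
  have e1 : c * dl a x * c⁻¹ = (c * x * c⁻¹)⁻¹ * (a * (c * x * c⁻¹) * a⁻¹) := by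
    have hs' : a⁻¹ * c⁻¹ = c⁻¹ * a⁻¹ := by rw [← mul_inv_rev, ← mul_inv_rev, ← hac]
    calc c * dl a x * c⁻¹ = c * x⁻¹ * a * x * (a⁻¹ * c⁻¹) := by simp [dl, mul_assoc]
      _ = c * x⁻¹ * (c⁻¹ * c) * a * x * (c⁻¹ * a⁻¹) := by rw [hs', inv_mul_cancel, mul_one]
      _ = c * x⁻¹ * c⁻¹ * (c * a) * x * (c⁻¹ * a⁻¹) := by simp [mul_assoc]
      _ = c * x⁻¹ * c⁻¹ * (a * c) * x * (c⁻¹ * a⁻¹) := by rw [hac]
      _ = _ := by simp [mul_assoc]
  rw [conj_eq c x] at e1
  have e2 : c * dl a x * c⁻¹ = dl a x * dl a (dl c x) := by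
    rw [e1]
    set e := dl c x with he
    calc (x * e)⁻¹ * (a * (x * e) * a⁻¹) = e⁻¹ * dl a x * (a * e * a⁻¹) := by simp [dl, mul_assoc]
      _ = e⁻¹ * dl a x * e * dl a e := by rw [conj_eq a e]; simp [mul_assoc]
      _ = dl a x * dl a e := by rw [mul_assoc e⁻¹, ← h, inv_mul_cancel_left]
  rw [conj_eq] at e2
  exact mul_left_cancel e2

theorem map_dl (f : G →* H) (a x : G) : f (dl a x) = dl (f a) (f x) := by simp [dl]

theorem map_dlist (f : G →* H) (l : List G) (x : G) : f (dlist l x) = dlist (l.map f) (f x) := by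
  induction l with
  | nil => rfl
  | cons a l ih => simp [map_dl, ih]

theorem dlist_one (l : List G) : dlist l (1 : G) = 1 := by
  induction l with
  | nil => rfl
  | cons a l ih => simp [ih]

/-- On an abelian subgroup the differences are homomorphisms. -/
theorem dlist_mul {U : Subgroup G} (hU : ∀ x ∈ U, ∀ y ∈ U, x * y = y * x) {l : List G}
    (hl : ∀ a ∈ l, a ∈ Subgroup.normalizer (U : Set G)) {x y : G} (hx : x ∈ U) (hy : y ∈ U) :
    dlist l (x * y) = dlist l x * dlist l y := by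
  induction l with
  | nil => rfl
  | cons a l ih =>
    have hl' : ∀ b ∈ l, b ∈ Subgroup.normalizer (U : Set G) := fun b hb => hl b (List.mem_cons_of_mem _ hb)
    rw [dlist_cons, dlist_cons, dlist_cons, ih hl']
    exact dl_mul_of_commute (hU _ (dlist_mem hl' hy) _ (dl_mem (hl a List.mem_cons_self) (dlist_mem hl' hx)))

theorem dlist_inv {U : Subgroup G} (hU : ∀ x ∈ U, ∀ y ∈ U, x * y = y * x) {l : List G}
    (hl : ∀ a ∈ l, a ∈ Subgroup.normalizer (U : Set G)) {x : G} (hx : x ∈ U) :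
    dlist l x⁻¹ = (dlist l x)⁻¹ := by
  refine eq_inv_of_mul_eq_one_left ?_
  rw [← dlist_mul hU hl (U.inv_mem hx) hx, inv_mul_cancel, dlist_one]

/-- The subgroup of `U` killed modulo `V` by the lists of length `m` from `L`. -/
theorem iterCommutator_le_of_dlist {U V L : Subgroup G} [U.Normal] [V.Normal] (hUU : ⁅U, U⁆ ≤ V) {i : ℕ}
    (h : ∀ x ∈ U, ∀ l : List G, l.length = i → (∀ a ∈ l, a ∈ L) → dlist l x ∈ V) :
    Cfsg.iterCommutator U L i ≤ V := by
  set π := QuotientGroup.mk' V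
  have hπ : ∀ z, π z = 1 ↔ z ∈ V := fun z => QuotientGroup.eq_one_iff z
  have : (U.map π).Normal := Subgroup.Normal.map inferInstance π (QuotientGroup.mk'_surjective V)
  have hab : ∀ x ∈ U.map π, ∀ y ∈ U.map π, x * y = y * x := by
    rintro _ ⟨x, hx, rfl⟩ _ ⟨y, hy, rfl⟩
    rw [← commutatorElement_eq_one_iff_mul_comm, ← map_commutatorElement, hπ]
    exact hUU (Subgroup.commutator_mem_commutator hx hy)
  suffices key : ∀ s, ∀ x ∈ Cfsg.iterCommutator U L s, x ∈ U ∧
      ∀ l : List G, l.length + s = i → (∀ a ∈ l, a ∈ L) → dlist l x ∈ V by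
    intro x hx
    exact (key i x hx).2 [] (by simp) (by simp)
  intro s
  induction s with
  | zero => exact fun x hx => ⟨hx, fun l hl hlL => h x hx l (by simpa using hl) hlL⟩
  | succ s ih =>
    let K : Subgroup G :=
      { carrier := {x | x ∈ U ∧ ∀ l : List G, l.length + (s + 1) = i → (∀ a ∈ l, a ∈ L) → dlist l x ∈ V}
        one_mem' := ⟨one_mem _, fun l _ _ => by rw [dlist_one]; exact one_mem _⟩
        mul_mem' := by
          rintro x y ⟨hx, hx'⟩ ⟨hy, hy'⟩
          refine ⟨U.mul_mem hx hy, fun l hl hlL => (hπ _).1 ?_⟩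
          rw [map_dlist, map_mul, dlist_mul hab (fun a _ => mem_normalizer_of_normal a)
            (Subgroup.mem_map_of_mem π hx) (Subgroup.mem_map_of_mem π hy), ← map_dlist, ← map_dlist,
            (hπ _).2 (hx' l hl hlL), (hπ _).2 (hy' l hl hlL), one_mul]
        inv_mem' := by
          rintro x ⟨hx, hx'⟩
          refine ⟨U.inv_mem hx, fun l hl hlL => (hπ _).1 ?_⟩
          rw [map_dlist, map_inv, dlist_inv hab (fun a _ => mem_normalizer_of_normal a)
            (Subgroup.mem_map_of_mem π hx), ← map_dlist, (hπ _).2 (hx' l hl hlL), inv_one] }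
    suffices hK : Cfsg.iterCommutator U L (s + 1) ≤ K from fun x hx => hK hx
    show ⁅Cfsg.iterCommutator U L s, L⁆ ≤ K
    rw [Subgroup.commutator_le]
    intro x hx a ha
    have hxU : x ∈ U := (ih x hx).1
    have e : ⁅x, a⁆ = dl a x⁻¹ := by simp [dl, commutatorElement_def, mul_assoc]
    rw [e]
    refine ⟨dl_mem (mem_normalizer_of_normal a) (U.inv_mem hxU), fun l hl hlL => ?_⟩
    have h1 := (ih x⁻¹ ((Cfsg.iterCommutator U L s).inv_mem hx)).2 (l ++ [a]) (by simp; omega) (by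
      intro b hb
      rw [List.mem_append, List.mem_singleton] at hb
      rcases hb with hb | rfl
      · exact hlL b hb
      · exact ha)
    simpa [dlist_append] using h1

/-- Iterated differences along a finite nilpotent subgroup vanish. -/
theorem exists_dlist_eq_one (S : Subgroup G) [Group.IsNilpotent S] :
    ∃ N : ℕ, ∀ l : List G, N ≤ l.length → (∀ a ∈ l, a ∈ S) → ∀ x ∈ S, dlist l x = 1 := by
  refine ⟨Group.nilpotencyClass S, fun l hl hlS x hx => ?_⟩
  suffices ∀ m : List G, (∀ a ∈ m, a ∈ S) → ∃ y : S, (y : G) = dlist m x ∧ y ∈ (⊤ : Subgroup S).lowerCentralSeries m.length by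
    obtain ⟨y, hy, hy'⟩ := this l hlS
    have := Subgroup.lowerCentralSeries_antitone (S := (⊤ : Subgroup S)) hl hy'
    rw [Subgroup.lowerCentralSeries_nilpotencyClass, Subgroup.mem_bot] at this
    rw [← hy, this]; rfl
  intro m hm
  induction m with
  | nil => exact ⟨⟨x, hx⟩, rfl, by simp⟩
  | cons a m ih =>
    obtain ⟨y, hy, hy'⟩ := ih fun b hb => hm b (List.mem_cons_of_mem _ hb)
    refine ⟨⁅y⁻¹, ⟨a, hm a List.mem_cons_self⟩⁆, ?_, ?_⟩
    · simp [dl, commutatorElement_def, ← hy, mul_assoc]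
    · exact Subgroup.commutator_mem_commutator ((Subgroup.inv_mem_iff _).2 hy') (Subgroup.mem_top _)

theorem exists_max_list {N : ℕ} {k₀ : ℕ} (P : List G → Prop)
    (hN : ∀ l, N ≤ l.length → ¬ P l) {l₀ : List G} (hl₀ : P l₀) (hk : k₀ ≤ l₀.length) :
    ∃ l, P l ∧ k₀ ≤ l.length ∧ ∀ m, l.length < m.length → ¬ P m := by
  by_contra hcon
  push Not at hcon
  have key : ∀ j, ∃ l, P l ∧ k₀ ≤ l.length ∧ j ≤ l.length := by
    intro j
    induction j with
    | zero => exact ⟨l₀, hl₀, hk, Nat.zero_le _⟩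
    | succ j ih =>
      obtain ⟨l, h1, h2, h3⟩ := ih
      obtain ⟨m, h4, h5⟩ := hcon l h1 h2
      exact ⟨m, h5, h2.trans h4.le, by omega⟩
  obtain ⟨l, h1, -, h3⟩ := key N
  exact hN l h3 h1


/-- A chief factor of `P` moving `Q` pairs a factor of `Q` with a factor of `Z`. -/
theorem pair_chief [Finite G] {p : ℕ} [Fact p.Prime] {P Q Z : Subgroup G} (hP : IsPGroup p P) (hQP : Q ≤ P) [Q.Normal]
    (hQ3 : ⁅P, Q⁆ ≤ Z) (hZQ : Z ≤ Q) (hZc : Z ≤ Subgroup.centralizer (Q : Set G)) {g : G} {i j : ℕ}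
    (hQi : ∀ U V : Subgroup G, Cfsg.IsChiefFactor U V → U ≤ Q → Cfsg.iterCommutator U (Subgroup.zpowers g) i ≤ V)
    (hZj : ∀ U V : Subgroup G, Cfsg.IsChiefFactor U V → U ≤ Z →
      Cfsg.iterCommutator U (Subgroup.zpowers g) j ≤ V)
    {U V : Subgroup G} (hUV : Cfsg.IsChiefFactor U V) (hUP : U ≤ P)
    (hne' : ¬ U ≤ (U ⊓ Subgroup.centralizer (Q : Set G)) ⊔ V) :
    Cfsg.iterCommutator U (Subgroup.zpowers g) (i + j - 1) ≤ V := by
  set L := Subgroup.zpowers g
  obtain ⟨hlt, hUn, hVn, hmax⟩ := id hUV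
  obtain ⟨W, ⟨hWn, hWU, hWV⟩, hWmin⟩ := (Finite.to_wellFoundedLT).wf.has_min
    {W : Subgroup G | W.Normal ∧ W ≤ U ∧ ¬ W ≤ V} ⟨U, hUn, le_rfl, hlt.not_ge⟩
  have hWV' : W ⊔ V = U := by
    rcases hmax (W ⊔ V) inferInstance le_sup_right (sup_le hWU hlt.le) with h | h
    · exact absurd (h ▸ le_sup_left) hWV
    · exact h
  have hminW : ∀ N : Subgroup G, N.Normal → N ≤ W → N = W ∨ N ≤ V := by
    intro N hN hNW
    by_contra hcon
    push Not at hcon
    exact hWmin N ⟨hN, hNW.trans hWU, hcon.2⟩ (lt_of_le_of_ne hNW hcon.1)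
  suffices hW : Cfsg.iterCommutator W L (i + j - 1) ≤ V by
    rw [← hWV']
    exact (PairDegree.iterCommutator_sup_le W V L _).trans (sup_le hW le_rfl)
  have hWP : W ≤ P := hWU.trans hUP
  have hne : ⁅W, Q⁆ ≠ ⊥ := fun e => hne' (by
    rw [← hWV']
    exact sup_le (le_sup_of_le_left (le_inf le_sup_left (Subgroup.commutator_eq_bot_iff_le_centralizer.mp e)))
      le_sup_right)
  obtain ⟨A, ⟨hAn, hAQ, hWA⟩, hAmin⟩ := (Finite.to_wellFoundedLT).wf.has_min
    {A : Subgroup G | A.Normal ∧ A ≤ Q ∧ ⁅W, A⁆ ≠ ⊥} ⟨Q, inferInstance, le_rfl, hne⟩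
  obtain ⟨A', hA'⟩ := PairDegree.exists_max_normal (A := A) (fun e => hWA (by
    rw [e]; exact le_bot_iff.mp (Subgroup.commutator_le_right W ⊥)))
  have hA'n : A'.Normal := hA'.2.2.1
  have hWA' : ⁅W, A'⁆ = ⊥ := by
    by_contra hcon
    exact hAmin A' ⟨hA'n, hA'.1.le.trans hAQ, hcon⟩ hA'.1
  have hBZ : ⁅W, A⁆ ≤ Z := (Subgroup.commutator_mono hWP hAQ).trans hQ3
  obtain ⟨B', hB'⟩ := PairDegree.exists_max_normal (A := ⁅W, A⁆) hWA
  have hB'n : B'.Normal := hB'.2.2.1
  have hBp : IsPGroup p (⁅W, A⁆ : Subgroup G) := hP.to_le ((hBZ.trans hZQ).trans hQP)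
  obtain ⟨R, iR, iA, Φ, -, hker, -, hirr, -⟩ := ChiefAction.exists_action hB' hBp
  have hact : ∀ x ∈ W, ∀ c ∈ (⁅W, A⁆ : Subgroup G), x * c * x⁻¹ * c⁻¹ ∈ B' := fun x hx =>
    (hker x).mp (hirr W hWn ((hP.to_le hWP).map Φ) hx)
  have hpair := PairDegree.iterCommutator_pairing (L := L) hA'.1.le hB'.1.le hWA' le_rfl
    ((hBZ.trans hZc).trans (Subgroup.centralizer_le (SetLike.coe_subset_coe.mpr hAQ)))
    ((hBZ.trans hZc).trans (Subgroup.centralizer_le (SetLike.coe_subset_coe.mpr (hBZ.trans hZQ))))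
    hact (hQi A A' hA' hAQ) (hZj _ B' hB' hBZ)
  let W0 : Subgroup G :=
    { carrier := {w | w ∈ W ∧ ∀ a ∈ A, ⁅w, a⁆ ∈ B'}
      one_mem' := ⟨one_mem _, fun a _ => by simp [one_mem]⟩
      mul_mem' := by
        rintro y z ⟨hy, hy'⟩ ⟨hz, hz'⟩
        refine ⟨W.mul_mem hy hz, fun a ha => ?_⟩
        have e : ⁅y * z, a⁆ = y * ⁅z, a⁆ * y⁻¹ * ⁅y, a⁆ := by simp [commutatorElement_def, mul_assoc]
        rw [e]
        exact B'.mul_mem (hB'n.conj_mem _ (hz' a ha) y) (hy' a ha)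
      inv_mem' := by
        rintro y ⟨hy, hy'⟩
        refine ⟨W.inv_mem hy, fun a ha => ?_⟩
        have e : ⁅y⁻¹, a⁆ = y⁻¹ * ⁅y, a⁆⁻¹ * y⁻¹⁻¹ := by simp [commutatorElement_def, mul_assoc]
        rw [e]
        exact hB'n.conj_mem _ (B'.inv_mem (hy' a ha)) _ }
  have hW0n : W0.Normal := ⟨by
    rintro y ⟨hy, hy'⟩ k
    refine ⟨hWn.conj_mem y hy k, fun a ha => ?_⟩
    have h1 := hB'n.conj_mem _ (hy' _ (hAn.conj_mem a ha k⁻¹)) k
    simpa [commutatorElement_def, mul_assoc] using h1⟩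
  rcases hminW W0 hW0n (fun w hw => hw.1) with h | h
  · exfalso
    refine hB'.1.not_ge ?_
    rw [Subgroup.commutator_le]
    intro w hw a ha
    rw [← h] at hw
    exact hw.2 a ha
  · exact le_trans (b := W0) (fun w hw => ⟨PairDegree.iterCommutator_antitone W L (Nat.zero_le _) hw, fun a ha =>
      hpair (Subgroup.commutator_mem_commutator hw ha)⟩) h

end CfsgLib.LocalEvenB.JSeven
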