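import Cfsg.Agent.Lib.LocalEvenB.JSeven.Cubic

/-!
An element outside the normal `p`-subgroup `P` of degree at most six on the chief factors inside `P`.
-/

set_option autoImplicit false
set_option linter.unusedSectionVars false
set_option linter.style.haveILetI false

namespace CfsgLib.LocalEvenB.JSeven

open scoped commutatorElement
open CfsgLib.KGroups.Functor

variable {G : Type*} [Group G] [Finite G] {p : ℕ} [Fact p.Prime] {S P E A : Subgroup G}

local notation "ℭ" X:max => Subgroup.centralizer ((X : Subgroup G) : Set G)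

/-- `C/E` has degree five, and four unless `A` is quadratic on `E`. -/
theorem degree_Cc (s : Setup p S P E A) {x : G} (hx : x ∈ Cc P E) {i : ℕ}
    (hi : ((∀ b ∈ E, ∀ a ∈ A, ∀ a' ∈ A, dl a (dl a' b) = 1) ∧ i = 5) ∨
      ((∀ c ∈ A, (∀ e ∈ E, ∀ a ∈ A, dl c (dl a e) = 1) → c ∈ P) ∧ i = 4))
    {l : List G} (hl : ∀ d ∈ l, d ∈ A) (hlen : l.length = i) : dlist l x ∈ E := by
  have := s.E_normal
  have := s.P_normal
  by_contra hlx
  obtain ⟨K, hK⟩ := exists_bound s
  obtain ⟨m, ⟨hmA, hmx⟩, hm, hmax⟩ := exists_max_list (N := K) (k₀ := i)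
    (fun l => (∀ d ∈ l, d ∈ A) ∧ dlist l x ∉ E)
    (fun l hl hc => hc.2 (hK l hl hc.1 x (s.P_le hx.1.1) ▸ one_mem E))
    (l₀ := l) ⟨hl, hlx⟩ hlen.ge
  have hn : ∀ l : List G, l.length = m.length + 1 → (∀ d ∈ l, d ∈ A) → dlist l x ∈ E := fun l hl hlA => by
    by_contra h
    exact hmax l (by omega) ⟨hlA, h⟩
  rcases hi with ⟨hq, rfl⟩ | ⟨hnc, rfl⟩
  · match m, hmA, hmx, hm, hn with
    | a :: a' :: w, hmA, hmx, hm, hn =>
    simp only [List.length_cons] at hm hn
    have ha : a ∈ A := hmA a List.mem_cons_self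
    have ha' : a' ∈ A := hmA a' (List.mem_cons_of_mem _ List.mem_cons_self)
    have hw : ∀ d ∈ w, d ∈ A := fun d hd => hmA d (List.mem_cons_of_mem _ (List.mem_cons_of_mem _ hd))
    refine hmx ?_
    rw [dlist_cons, dlist_cons]
    refine dl_mem (mem_normalizer_of_normal a) (orbit_absurd s hx (n := w.length + 2) hn hw (by omega) (by omega)
      (fun M hbM _ hcov c hc => ?_) a' ha')
    by_cases hC : A ⊓ ℭ M ≤ P
    · have hcP : c ∈ P := hC hc
      rw [dlist_commute_Cc s hx hc.1 hcP hw]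
      have hne : 2 ≤ w.length := by omega
      match w, hne, hw with
      | d :: d' :: w', _, hw =>
      rw [dlist_cons, dlist_cons]
      exact hq _ (dlist_mem (fun e _ => mem_normalizer_of_normal e) (dl_P s hx hcP)) d (hw d List.mem_cons_self)
        d' (hw d' (List.mem_cons_of_mem _ List.mem_cons_self))
    · exfalso
      refine hmx ?_
      rw [dlist_cons, dlist_cons]
      have hsup := hcov hC
      have hmem : a ∈ (A ⊓ ℭ M) ⊔ P := hsup ▸ Subgroup.mem_sup_left ha
      obtain ⟨c', hc', q, hq', rfl⟩ := Subgroup.mem_sup_of_normal_right.mp hmem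
      have hy : dl a' (dlist w x) ∈ Cc P E := dlist_Cc s hx (a' :: w)
      have h1 : dl c' (dl a' (dlist w x)) = 1 := by
        rw [dl_eq_one_iff, ← Subgroup.mem_centralizer_iff.mp hc'.2 _ (hbM a' ha'), mul_inv_cancel_right]
      rw [dl_mul_left, h1, one_mul]
      exact s.E_normal.conj_mem _ (dl_P s hy hq') c'
  · match m, hmA, hmx, hm, hn with
    | a :: w, hmA, hmx, hm, hn =>
    simp only [List.length_cons] at hm hn
    have ha : a ∈ A := hmA a List.mem_cons_self
    have hw : ∀ d ∈ w, d ∈ A := fun d hd => hmA d (List.mem_cons_of_mem _ hd)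
    refine hmx (orbit_absurd s hx (n := w.length + 1) hn hw (by omega) (by omega)
      (fun M _ hEM _ c hc => ?_) a ha)
    have hkey : ∀ e ∈ E, ∀ d ∈ A, dl c (dl d e) = 1 := fun e he d hd => by
      rw [dl_eq_one_iff, ← Subgroup.mem_centralizer_iff.mp hc.2 _ (hEM e he d hd), mul_inv_cancel_right]
    have hcP : c ∈ P := hnc c hc.1 hkey
    rw [dlist_commute_Cc s hx hc.1 hcP hw]
    have hne : 3 ≤ w.length := by omega
    match w, hne, hw with
    | d :: d' :: d'' :: w', _, hw =>
    have hd : d ∈ A := hw d List.mem_cons_self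
    have hd' : d' ∈ A := hw d' (List.mem_cons_of_mem _ List.mem_cons_self)
    have hd'' : d'' ∈ A := hw d'' (List.mem_cons_of_mem _ (List.mem_cons_of_mem _ List.mem_cons_self))
    have hw' : ∀ e ∈ w', e ∈ A := fun e he =>
      hw e (List.mem_cons_of_mem _ (List.mem_cons_of_mem _ (List.mem_cons_of_mem _ he)))
    show dlist ([d, d', d''] ++ w') (dl c x) = 1
    rw [dlist_append, ← dlist_commute_Cc s hx hc.1 hcP hw']
    exact kill s (dlist_Cc s hx w') hc.1 hcP hkey hd hd' hd''

theorem chief_trivial {U V : Subgroup G} (hP : IsPGroup p P) [P.Normal] (hUV : Cfsg.IsChiefFactor U V) (hUP : U ≤ P) :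
    (∀ q ∈ P, ∀ x ∈ U, dl q x ∈ V) ∧ ⁅U, U⁆ ≤ V := by
  obtain ⟨R, iR, iA, Φ, -, hker, -, hirr, -⟩ := ChiefAction.exists_action hUV (hP.to_le hUP)
  refine ⟨fun q hq x hx => ?_, ChiefAction.commutator_le_of_chief hUV (hP.to_le hUP)⟩
  have h := (hker q).mp (hirr P inferInstance (hP.map Φ) hq) x hx
  have := hUV.2.2.1.conj_mem _ h x⁻¹
  simpa [dl, mul_assoc] using this

/-- The degree on every chief factor inside `P`. -/
theorem degree_le_six (s : Setup p S P E A) {g : G} (hg : g ∈ A) {U V : Subgroup G}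
    (hUV : Cfsg.IsChiefFactor U V) (hUP : U ≤ P) :
    Cfsg.iterCommutator U (Subgroup.zpowers g) 6 ≤ V := by
  have := s.P_normal
  have := s.E_normal
  have := Cc_normal s
  have hP : IsPGroup p P := s.pgroup.to_le s.P_le
  set L := Subgroup.zpowers g
  have hLA : ∀ {l : List G}, (∀ d ∈ l, d ∈ L) → ∀ d ∈ l, d ∈ A := fun h d hd =>
    Subgroup.zpowers_le.mpr hg (h d hd)
  have hanti : ∀ {U V : Subgroup G} {i j : ℕ}, Cfsg.IsChiefFactor U V → i ≤ j →
      Cfsg.iterCommutator U L i ≤ V → Cfsg.iterCommutator U L j ≤ V := by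
    intro U V i j h hij hle
    have := h.2.1
    exact (PairDegree.iterCommutator_antitone U L hij).trans hle
  have hE3 : ∀ U V : Subgroup G, Cfsg.IsChiefFactor U V → U ≤ E → Cfsg.iterCommutator U L 3 ≤ V := by
    intro U V h hUE
    have := h.2.1
    have := h.2.2.1
    obtain ⟨htr, hUU⟩ := chief_trivial hP h (hUE.trans s.E_le)
    refine iterCommutator_le_of_dlist hUU fun x hx l hlen hl => ?_
    have hlA := hLA hl
    match l, hlen, hlA with
    | [a₁, a₂, a₃], _, hlA => exact cubic_section s htr (hUE hx) hx (hlA a₁ (by simp)) (hlA a₂ (by simp)) (hlA a₃ (by simp))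
  obtain ⟨i, j, hij, hi3, hEj, hCi⟩ : ∃ i j : ℕ, i + j ≤ 7 ∧ 3 ≤ i ∧
      (∀ U V : Subgroup G, Cfsg.IsChiefFactor U V → U ≤ E → Cfsg.iterCommutator U L j ≤ V) ∧
      (∀ x ∈ Cc P E, ∀ l : List G, (∀ d ∈ l, d ∈ A) → l.length = i → dlist l x ∈ E) := by
    rcases dichotomy s with hq | hnc
    · refine ⟨5, 2, le_rfl, by norm_num, fun U V h hUE => ?_, fun x hx l hl hlen =>
        degree_Cc s hx (Or.inl ⟨hq, rfl⟩) hl hlen⟩
      have := h.2.1
      have := h.2.2.1
      refine iterCommutator_le_of_dlist (chief_trivial hP h (hUE.trans s.E_le)).2 fun x hx l hlen hl => ?_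
      have hlA := hLA hl
      match l, hlen, hlA with
      | [a₁, a₂], _, hlA =>
        show dl a₁ (dl a₂ x) ∈ V
        rw [hq x (hUE hx) a₁ (hlA a₁ (by simp)) a₂ (hlA a₂ (by simp))]
        exact one_mem V
    · exact ⟨4, 3, le_rfl, by norm_num, hE3, fun x hx l hl hlen => degree_Cc s hx (Or.inr ⟨hnc, rfl⟩) hl hlen⟩
  have hR : (P ⊓ ℭ E).Normal := inferInstance
  have hEC : ℭ (Cc P E) ⊓ (P ⊓ ℭ E) = E := by
    refine le_antisymm ?_ (le_inf ?_ (le_inf s.E_le s.E_ab))
    · set D := ℭ (Cc P E) ⊓ (P ⊓ ℭ E) with hD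
      have hDC : D ⊓ Cc P E ≤ E := by
        refine s.E_max _ inferInstance ?_ (inf_le_left.trans (inf_le_right.trans inf_le_left)) ?_
        · intro e he
          have heC : e ∈ Cc P E := ⟨⟨s.E_le he, s.E_ab he⟩, fun q _ =>
            E.mul_mem (s.E_normal.conj_mem e he q) (E.inv_mem he)⟩
          refine ⟨⟨?_, s.E_le he, s.E_ab he⟩, heC⟩
          show e ∈ Subgroup.centralizer (Cc P E : Set G)
          rw [Subgroup.mem_centralizer_iff]
          exact fun y hy => Cc_comm s hy he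
        · exact inf_le_left.trans (inf_le_left.trans (Subgroup.centralizer_le inf_le_right))
      by_contra hcon
      set π := QuotientGroup.mk' E
      have : Group.IsNilpotent P := hP.isNilpotent
      have hDP : D ≤ P := inf_le_right.trans inf_le_left
      have : (P.map π).Normal := s.P_normal.map π (QuotientGroup.mk'_surjective E)
      have : (D.map π).Normal := Subgroup.Normal.map inferInstance π (QuotientGroup.mk'_surjective E)
      have : Group.IsNilpotent (P.map π) := (hP.map π).isNilpotent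
      have hne : (D.map π).subgroupOf (P.map π) ≠ ⊥ := by
        intro h
        refine hcon fun d hd => (QuotientGroup.eq_one_iff d).mp ?_
        have h1 : (⟨π d, Subgroup.mem_map_of_mem π (hDP hd)⟩ : P.map π) ∈ (D.map π).subgroupOf (P.map π) :=
          Subgroup.mem_map_of_mem π hd
        rw [h, Subgroup.mem_bot] at h1
        exact congrArg Subtype.val h1
      obtain ⟨⟨z, hz⟩, ⟨hzD, hzc⟩, hz1⟩ := (Subgroup.ne_bot_iff_exists_ne_one.mp
        (CfsgLib.Solvable.FrattiniFitting.inf_center_ne_bot _ hne) :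
          ∃ a : ↥((D.map π).subgroupOf (P.map π) ⊓ Subgroup.center (P.map π)), a ≠ 1) |> fun ⟨⟨a, ha⟩, h⟩ =>
            (⟨a, ha, fun e => h (Subtype.ext e)⟩ : ∃ a : ↥(P.map π), a ∈ (D.map π).subgroupOf (P.map π) ⊓
              Subgroup.center (P.map π) ∧ a ≠ 1)
      obtain ⟨d, hd, rfl⟩ := Subgroup.mem_subgroupOf.mp hzD
      have hdC : d ∈ Cc P E := by
        refine ⟨hd.2, fun q hq => ?_⟩
        have h1 := Subgroup.mem_center_iff.mp hzc ⟨π q, Subgroup.mem_map_of_mem π hq⟩
        have h2 : π q * π d = π d * π q := congrArg Subtype.val h1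
        refine (QuotientGroup.eq_one_iff _).mp ?_
        show π (q * d * q⁻¹ * d⁻¹) = 1
        simp only [map_mul, map_inv, h2, mul_inv_cancel_right, mul_inv_cancel]
      exact hz1 (Subtype.ext ((QuotientGroup.eq_one_iff d).mpr (hDC ⟨hd, hdC⟩)))
    · intro e he
      rw [Subgroup.mem_centralizer_iff]
      exact fun y hy => Cc_comm s hy he
  have hECc : E ≤ Cc P E := fun e he =>
    ⟨⟨s.E_le he, s.E_ab he⟩, fun q _ => E.mul_mem (s.E_normal.conj_mem e he q) (E.inv_mem he)⟩
  have hCR : Cc P E ≤ P ⊓ ℭ E := fun x hx => hx.1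
  have hZC : Cc P E ⊓ ℭ (Cc P E) = E := by
    refine le_antisymm ((le_inf inf_le_right (inf_le_left.trans hCR)).trans_eq hEC) (le_inf hECc ?_)
    exact hEC.symm.le.trans inf_le_left
  -- the chief factors of `C`
  have hCdeg : ∀ U V : Subgroup G, Cfsg.IsChiefFactor U V → U ≤ Cc P E → Cfsg.iterCommutator U L i ≤ V := by
    intro U V h hUC
    have := h.2.1
    have := h.2.2.1
    have hUP : U ≤ P := hUC.trans (hCR.trans inf_le_left)
    obtain ⟨htr, hUU⟩ := chief_trivial hP h hUP
    rcases h.2.2.2 ((U ⊓ E) ⊔ V) inferInstance le_sup_right (sup_le inf_le_left h.1.le) with hcase | hcase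
    · refine iterCommutator_le_of_dlist hUU fun x hx l hlen hl => ?_
      have hxE : dlist l x ∈ U ⊓ E := ⟨dlist_mem (fun d _ => mem_normalizer_of_normal d) hx,
        hCi x (hUC hx) l (hLA hl) hlen⟩
      exact hcase ▸ Subgroup.mem_sup_left hxE
    · refine hanti h hi3 (iterCommutator_le_of_dlist hUU fun x hx l hlen hl => ?_)
      rw [← hcase] at hx
      obtain ⟨e, he, v, hv, rfl⟩ := Subgroup.mem_sup_of_normal_right.mp hx
      refine (QuotientGroup.eq_one_iff _).mp ?_
      show QuotientGroup.mk' V (dlist l (e * v)) = 1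
      rw [map_dlist, map_mul, (QuotientGroup.eq_one_iff v).mpr hv |> fun h => (h : QuotientGroup.mk' V v = 1),
        mul_one, ← map_dlist]
      refine (QuotientGroup.eq_one_iff _).mpr ?_
      have hlA := hLA hl
      match l, hlen, hlA with
      | [a₁, a₂, a₃], _, hlA =>
        exact cubic_section s htr he.2 he.1 (hlA a₁ (by simp)) (hlA a₂ (by simp)) (hlA a₃ (by simp))
  obtain ⟨hlt, hUn, hVn, hmax⟩ := id hUV
  rcases hmax ((U ⊓ ℭ E) ⊔ V) inferInstance le_sup_right (sup_le inf_le_left hlt.le) with hcase | hcase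
  · have hne : ¬ U ≤ (U ⊓ ℭ E) ⊔ V := fun h => hlt.not_ge (h.trans hcase.le)
    exact hanti hUV (by norm_num : 3 + 3 - 1 ≤ 6) (pair_chief hP s.E_le
      (Subgroup.commutator_le_right P E) le_rfl s.E_ab hE3 hE3 hUV hUP hne)
  · -- move the factor into `C_P(E)`
    set U₁ := U ⊓ ℭ E with hU₁
    have hU₁R : U₁ ≤ P ⊓ ℭ E := le_inf (inf_le_left.trans hUP) inf_le_right
    have hch : Cfsg.IsChiefFactor U₁ (U₁ ⊓ V) := by
      refine ⟨lt_of_le_of_ne inf_le_left fun e => hlt.ne ?_, inferInstance, inferInstance, fun N hN h1 h2 => ?_⟩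
      · rw [← hcase]; exact (sup_eq_right.mpr (inf_eq_left.mp e)).symm
      · have hNU : N ⊔ V ≤ U := sup_le (h2.trans inf_le_left) hlt.le
        rcases hmax (N ⊔ V) inferInstance le_sup_right hNU with hh | hh
        · exact Or.inl (le_antisymm (le_inf h2 (hh ▸ le_sup_left)) h1)
        · refine Or.inr (le_antisymm h2 fun u hu => ?_)
          have hu' : u ∈ N ⊔ V := hh.symm ▸ (inf_le_left : U₁ ≤ U) hu
          obtain ⟨n, hn, v, hv, rfl⟩ := Subgroup.mem_sup_of_normal_right.mp hu'
          refine N.mul_mem hn (h1 ⟨?_, hv⟩)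
          have := U₁.mul_mem (U₁.inv_mem (h2 hn)) hu
          rwa [inv_mul_cancel_left] at this
    have h6 := hanti hch (show i + j - 1 ≤ 6 by omega) (PairDegree.iterCommutator_chief (P := P ⊓ ℭ E) (Q := Cc P E)
      (hP.to_le inf_le_left) hCR (by
        rw [hZC, Subgroup.commutator_le]
        intro r hr x hx
        exact hx.2 r hr.1) (by rw [hZC, inf_comm, hEC]) (by omega : 1 ≤ i) hCdeg
      (fun U' V' h hle => hEj U' V' h (hle.trans hZC.le)) hch hU₁R)
    rw [← hcase]
    exact (PairDegree.iterCommutator_sup_le U₁ V L 6).trans (sup_le (h6.trans inf_le_right) le_rfl)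

end CfsgLib.LocalEvenB.JSeven
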