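import Cfsg.Agent.Lib.Fusion.Transfer
import Mathlib.GroupTheory.Frattini
import Cfsg.Agent.Lib.Solvable.FrattiniFitting

/-!
Tate's theorem on largest p-factor groups.
-/

set_option autoImplicit false
set_option linter.unusedSectionVars false

namespace CfsgLib.LocalEvenB.JSeven

open Subgroup
open scoped commutatorElement
open CfsgLib.Fusion.Basic CfsgLib.Fusion.Transfer

variable {G : Type*} [Group G] {p : ℕ}

/-- Tate: control of the abelian `p`-factor group is control of the largest `p`-factor group. -/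
theorem tate [Finite G] [Fact p.Prime] (P : Sylow p G) {M : Subgroup G} (hPM : (P : Subgroup G) ≤ M)
    (h : (P : Subgroup G) ⊓ commutator G ≤ ⁅M, M⁆) :
    (P : Subgroup G) ⊓ Cfsg.pResidual p G ≤ (Cfsg.pResidual p M).map M.subtype := by
  set O := Cfsg.pResidual p G
  set O' := (Cfsg.pResidual p M).map M.subtype
  let R : Subgroup P := O.subgroupOf P
  let Sb : Subgroup P := O'.subgroupOf P
  have : R.Normal := Normal.subgroupOf inferInstance _
  have : Sb.Normal := ⟨fun x hx u => by
    obtain ⟨w, hw, e⟩ := hx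
    exact ⟨⟨u, hPM u.2⟩ * w * ⟨u, hPM u.2⟩⁻¹, pResidual_normal.conj_mem w hw _, by
      show (u : G) * (w : G) * (u : G)⁻¹ = (u : G) * (x : G) * (u : G)⁻¹
      rw [show ((w : M) : G) = (x : G) from e]⟩⟩
  have hSR : Sb ≤ R := fun x hx => pResidual_map_subtype_le M hx
  let T : Subgroup P := ⁅R, (⊤ : Subgroup P)⁆ ⊔ Sb
  have hTR : T ≤ R := sup_le (commutator_le_left _ _) hSR
  have hnil : Group.IsNilpotent P := P.2.isNilpotent
  suffices R ≤ T by
    intro x hx
    exact le_of_le_commutator_sup this (show (⟨x, hx.1⟩ : P) ∈ R from hx.2)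
  have : T.Normal := sup_normal _ _
  -- the kernel lies in `P' T`
  have hRT : R ≤ commutator P ⊔ T := by
    intro x hx
    have hxG' : (x : G) ∈ commutator G := by
      rw [← Abelianization.ker_of, MonoidHom.mem_ker]
      let K : Subgroup (Abelianization G) :=
        { carrier := {a | (orderOf a).Coprime p}
          one_mem' := by simp
          mul_mem' := fun {a b} ha hb =>
            (Nat.Coprime.mul_left ha hb).coprime_dvd_left (Commute.orderOf_mul_dvd_mul_orderOf (Commute.all a b))
          inv_mem' := fun {a} ha => by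
            show (orderOf a⁻¹).Coprime p
            rw [orderOf_inv]; exact ha }
      have hK : O ≤ K.comap Abelianization.of := (Subgroup.closure_le _).mpr fun g hg =>
        Nat.Coprime.coprime_dvd_left (orderOf_map_dvd Abelianization.of g) hg
      obtain ⟨k, hk⟩ := P.2 x
      have hk' : (x : G) ^ p ^ k = 1 := by simpa using congrArg Subtype.val hk
      refine orderOf_eq_one_iff.mp (Nat.eq_one_of_dvd_coprimes ((hK hx : (orderOf _).Coprime p).pow_right k)
        dvd_rfl (orderOf_dvd_of_pow_eq_one ?_))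
      rw [← map_pow, hk', map_one]
    have hxM := h ⟨x.2, hxG'⟩
    rw [← Subgroup.map_subtype_commutator] at hxM
    obtain ⟨m, hm, hme⟩ := hxM
    set π := QuotientGroup.mk' (Cfsg.pResidual p M)
    let ρ : P →* M ⧸ Cfsg.pResidual p M := π.comp (Subgroup.inclusion hPM)
    have hρ : Function.Surjective ρ := by
      intro q
      obtain ⟨g, rfl⟩ := QuotientGroup.mk'_surjective _ q
      obtain ⟨w, hw, u, hu, rfl⟩ := exists_eq_pResidual_mul (P.subtype hPM) g
      refine ⟨⟨(u : G), hu⟩, ?_⟩
      rw [map_mul, show π w = 1 from (QuotientGroup.eq_one_iff w).mpr hw, one_mul]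
      rfl
    have h1 : π m ∈ (commutator P).map ρ := by
      rw [commutator_def, map_commutator, Subgroup.map_top_of_surjective ρ hρ,
        ← Subgroup.map_top_of_surjective π (QuotientGroup.mk'_surjective _), ← map_commutator, ← commutator_def]
      exact mem_map_of_mem π hm
    obtain ⟨c, hc, hce⟩ := h1
    have hxm : m = Subgroup.inclusion hPM x := Subtype.ext hme
    have : c⁻¹ * x ∈ Sb := by
      refine ⟨(Subgroup.inclusion hPM c)⁻¹ * m, ?_, by simp [hxm]⟩
      refine (QuotientGroup.eq_one_iff (N := Cfsg.pResidual p M) _).mp ?_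
      show π ((Subgroup.inclusion hPM c)⁻¹ * m) = 1
      rw [map_mul, map_inv, show π (Subgroup.inclusion hPM c) = π m from hce, inv_mul_cancel]
    have := mul_mem (mem_sup_left hc : c ∈ commutator P ⊔ T) (mem_sup_right (mem_sup_right this) : c⁻¹ * x ∈ commutator P ⊔ T)
    rwa [mul_inv_cancel_left] at this
  have hRF : ∀ S' : Subgroup P, T ≤ S' → R ≤ S' ⊔ frattini P := fun S' hS'T => hRT.trans
    (sup_le (CfsgLib.Solvable.FrattiniFitting.commutator_le_frattini.trans le_sup_right) (hS'T.trans le_sup_left))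
  let πG : P →* G ⧸ O := (QuotientGroup.mk' O).comp (P : Subgroup G).subtype
  have hTker : T ≤ πG.ker := fun t ht => (QuotientGroup.eq_one_iff _).mpr (hTR ht)
  let f : P ⧸ T →* G ⧸ O := QuotientGroup.lift T πG hTker
  have hf : ∀ q : G ⧸ O, ∃ e, f e = q := by
    intro q
    induction q using QuotientGroup.induction_on with
    | H g =>
      obtain ⟨w, hw, u, hu, rfl⟩ := exists_eq_pResidual_mul P g
      refine ⟨QuotientGroup.mk (⟨u, hu⟩ : P), ?_⟩
      show QuotientGroup.mk' O u = QuotientGroup.mk' O (w * u)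
      rw [map_mul, show QuotientGroup.mk' O w = 1 from (QuotientGroup.eq_one_iff w).mpr hw, one_mul]
  have hfker : ∀ e, f e = 1 → e ∈ center (P ⧸ T) := by
    intro e he
    induction e using QuotientGroup.induction_on with
    | H s =>
      have hs : s ∈ R := show (s : G) ∈ O from (QuotientGroup.eq_one_iff (N := O) (s : G)).mp he
      rw [mem_center_iff]
      intro e'
      induction e' using QuotientGroup.induction_on with
      | H a =>
        symm
        apply commutatorElement_eq_one_iff_mul_comm.mp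
        show ⁅QuotientGroup.mk' T s, QuotientGroup.mk' T a⁆ = 1
        rw [← map_commutatorElement]
        exact (QuotientGroup.eq_one_iff _).mpr (mem_sup_left (commutator_mem_commutator hs (mem_top a)))
  -- the pullback of the central extension along `G → G ⧸ O`
  let X : Subgroup (G × (P ⧸ T)) :=
    ((QuotientGroup.mk' O).comp (MonoidHom.fst _ _)).eqLocus (f.comp (MonoidHom.snd _ _))
  let pr : X →* G := (MonoidHom.fst _ _).comp X.subtype
  let PX : Subgroup X := (P : Subgroup G).comap pr
  have hpr : Function.Surjective pr := fun g => by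
    obtain ⟨e, he⟩ := hf (QuotientGroup.mk' O g)
    exact ⟨⟨(g, e), he.symm⟩, rfl⟩
  have hE : IsPGroup p (P ⧸ T) := P.2.to_quotient T
  have hkerP : IsPGroup p pr.ker := by
    let sn : pr.ker →* P ⧸ T := ((MonoidHom.snd _ _).comp X.subtype).comp pr.ker.subtype
    refine hE.of_injective sn fun a b hab => ?_
    refine Subtype.ext (Subtype.ext (Prod.ext ?_ hab))
    exact (MonoidHom.mem_ker.mp a.2).trans (MonoidHom.mem_ker.mp b.2).symm
  have hPX : IsPGroup p PX := P.2.comap_of_ker_isPGroup pr hkerP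
  have hidx : ¬ p ∣ PX.index := by
    rw [index_comap_of_surjective _ hpr]; exact P.not_dvd_index
  let PXs : Sylow p X := hPX.toSylow hidx
  let Z : Subgroup X := pr.ker
  have hZc : Z ≤ center X := by
    intro z hz
    rw [mem_center_iff]
    intro x
    have hz1 : (z : G × (P ⧸ T)).1 = 1 := hz
    have hz2 : f (z : G × (P ⧸ T)).2 = 1 := by
      rw [show f (z : G × (P ⧸ T)).2 = QuotientGroup.mk' O (z : G × (P ⧸ T)).1 from z.2.symm, hz1,
        map_one]
    refine Subtype.ext (Prod.ext ?_ ?_)
    · simp [hz1]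
    · exact mem_center_iff.mp (hfker _ hz2) _
  have hZP : Z ≤ PX := fun z hz => by
    show pr z ∈ (P : Subgroup G)
    rw [MonoidHom.mem_ker.mp hz]
    exact one_mem _
  let sec : PX →* P ⧸ T := (QuotientGroup.mk' T).comp
    { toFun := fun x => (⟨pr x, x.2⟩ : P)
      map_one' := rfl
      map_mul' := fun _ _ => rfl }
  let snd' : PX →* P ⧸ T := ((MonoidHom.snd _ _).comp X.subtype).comp PX.subtype
  have hdiff : ∀ x : PX, f (snd' x * (sec x)⁻¹) = 1 := by
    intro x
    rw [map_mul, map_inv, mul_inv_eq_one]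
    exact ((x : X).2).symm
  have hcen : ∀ x : PX, snd' x * (sec x)⁻¹ ∈ center (P ⧸ T) := fun x => hfker _ (hdiff x)
  let π : PX →* Z :=
    { toFun := fun x => ⟨⟨(1, snd' x * (sec x)⁻¹), by
          show QuotientGroup.mk' O (1 : G) = f _
          rw [map_one]; exact (hdiff x).symm⟩, rfl⟩
      map_one' := by
        refine Subtype.ext (Subtype.ext (Prod.ext rfl ?_))
        simp
      map_mul' := fun a b => by
        refine Subtype.ext (Subtype.ext (Prod.ext (one_mul (1 : G)).symm ?_))
        show snd' (a * b) * (sec (a * b))⁻¹ = (snd' a * (sec a)⁻¹) * (snd' b * (sec b)⁻¹)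
        have hc := mem_center_iff.mp (hcen b) (sec a)⁻¹
        rw [map_mul, map_mul, mul_inv_rev, mul_assoc, ← mul_assoc (snd' b), ← hc, ← mul_assoc] }
  have hπ : ∀ z : Z, π (Subgroup.inclusion hZP z) = z := by
    intro z
    have hz1 : ((z : X) : G × (P ⧸ T)).1 = 1 := z.2
    refine Subtype.ext (Subtype.ext (Prod.ext hz1.symm ?_))
    show snd' (Subgroup.inclusion hZP z) * (sec (Subgroup.inclusion hZP z))⁻¹ = _
    have : (⟨pr (z : X), hZP z.2⟩ : P) = 1 := Subtype.ext hz1
    have hs : sec (Subgroup.inclusion hZP z) = 1 := by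
      show QuotientGroup.mk' T (⟨pr (z : X), hZP z.2⟩ : P) = 1
      rw [this, map_one]
    rw [hs, inv_one, mul_one]
    rfl
  obtain ⟨τ, hτ⟩ := exists_retraction PXs hZc hZP π hπ
  -- the kernel of the retraction is mapped onto `P ⧸ T`, killing `O`
  let Kτ : Subgroup X := τ.ker
  have hR : ∀ x : X, x * ((τ x : Z) : X)⁻¹ ∈ Kτ := by
    intro x
    rw [MonoidHom.mem_ker, map_mul, map_inv, hτ (τ x), mul_inv_cancel]
  have hinj : ∀ x ∈ Kτ, pr x = 1 → x = 1 := by
    intro x hx hx1
    have := hτ ⟨x, hx1⟩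
    rw [MonoidHom.mem_ker.mp hx] at this
    exact (congrArg Subtype.val this).symm
  let rr : Kτ →* G := pr.comp Kτ.subtype
  have hrr : Function.Bijective rr := by
    refine ⟨(injective_iff_map_eq_one rr).mpr fun x hx => Subtype.ext (hinj x x.2 hx), fun g => ?_⟩
    obtain ⟨x, rfl⟩ := hpr g
    refine ⟨⟨_, hR x⟩, ?_⟩
    show pr (x * ((τ x : Z) : X)⁻¹) = pr x
    rw [map_mul, map_inv, MonoidHom.mem_ker.mp (τ x).2, inv_one, mul_one]
  let e : Kτ ≃* G := MulEquiv.ofBijective rr hrr
  let s : G →* P ⧸ T := (((MonoidHom.snd _ _).comp X.subtype).comp Kτ.subtype).comp e.symm.toMonoidHom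
  have hs : ∀ g, f (s g) = QuotientGroup.mk' O g := by
    intro g
    conv_rhs => rw [← e.apply_symm_apply g]
    exact ((e.symm g : X).2).symm
  -- surjectivity, by the Frattini property
  let S' : Subgroup P := s.range.comap (QuotientGroup.mk' T)
  have hTS' : T ≤ S' := fun t ht => by
    show QuotientGroup.mk' T t ∈ s.range
    rw [show QuotientGroup.mk' T t = 1 from (QuotientGroup.eq_one_iff t).mpr ht]
    exact one_mem _
  have hS' : S' ⊔ frattini P = ⊤ := by
    rw [eq_top_iff]
    intro a _
    obtain ⟨b, hb⟩ := QuotientGroup.mk'_surjective T (s (a : G))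
    have hbS' : b ∈ S' := ⟨_, hb.symm⟩
    have hd : b⁻¹ * a ∈ R := by
      show ((b⁻¹ * a : P) : G) ∈ O
      have h1 : f (QuotientGroup.mk' T b) = QuotientGroup.mk' O (a : G) := by rw [hb, hs]
      have h2 : f (QuotientGroup.mk' T b) = QuotientGroup.mk' O (b : G) := rfl
      rw [← QuotientGroup.eq_one_iff]
      show QuotientGroup.mk' O ((b : G)⁻¹ * a) = 1
      rw [map_mul, map_inv, ← h2, h1, inv_mul_cancel]
    have h3 : b * (b⁻¹ * a) ∈ S' ⊔ frattini P :=
      mul_mem (mem_sup_left hbS') (hRF S' hTS' hd)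
    simpa using h3
  have htop : S' = ⊤ := frattini_nongenerating hS'
  intro x hx
  have hxT : QuotientGroup.mk' T x ∈ s.range := by
    have : x ∈ S' := by rw [htop]; exact mem_top x
    exact this
  obtain ⟨g, hg⟩ := hxT
  have hgO : g ∈ O := by
    rw [← QuotientGroup.eq_one_iff]
    show QuotientGroup.mk' O g = 1
    rw [← hs, hg]
    exact (QuotientGroup.eq_one_iff _).mpr hx
  have : s g = 1 := MonoidHom.mem_ker.mp (pResidual_le_ker s hE hgO)
  rw [hg] at this
  exact (QuotientGroup.eq_one_iff _).mp this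

/-- The largest `p`-factor group of a subgroup controlling transfer. -/
theorem factor_iso [Finite G] [Fact p.Prime] (P : Sylow p G) {M : Subgroup G} (hPM : (P : Subgroup G) ≤ M)
    (h : (P : Subgroup G) ⊓ commutator G ≤ ⁅M, M⁆) [(Cfsg.pResidual p G).Normal] [(Cfsg.pResidual p M).Normal] :
    Nonempty (G ⧸ Cfsg.pResidual p G ≃* M ⧸ Cfsg.pResidual p M) := by
  let φ : M ⧸ Cfsg.pResidual p M →* G ⧸ Cfsg.pResidual p G :=
    QuotientGroup.map _ _ M.subtype (map_pResidual_le M.subtype |> fun h => Subgroup.map_le_iff_le_comap.mp h)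
  refine ⟨(MulEquiv.ofBijective φ ⟨(injective_iff_map_eq_one φ).mpr fun q hq => ?_, fun q => ?_⟩).symm⟩
  · obtain ⟨m, rfl⟩ := QuotientGroup.mk'_surjective _ q
    obtain ⟨w, hw, u, hu, rfl⟩ := exists_eq_pResidual_mul (P.subtype hPM) m
    have hmem : ((w * u : M) : G) ∈ Cfsg.pResidual p G := (QuotientGroup.eq_one_iff _).mp hq
    have hw' : (w : G) ∈ Cfsg.pResidual p G := pResidual_map_subtype_le M ⟨w, hw, rfl⟩
    have hu' : (u : G) ∈ Cfsg.pResidual p G := by
      have := mul_mem (inv_mem hw') hmem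
      simpa using this
    obtain ⟨u', hu'', e⟩ := tate P hPM h ⟨hu, hu'⟩
    refine (QuotientGroup.eq_one_iff _).mpr (mul_mem hw ?_)
    rwa [← (Subtype.ext e : u' = u)]
  · obtain ⟨g, rfl⟩ := QuotientGroup.mk'_surjective _ q
    obtain ⟨w, hw, u, hu, rfl⟩ := exists_eq_pResidual_mul P g
    refine ⟨QuotientGroup.mk ⟨u, hPM hu⟩, ?_⟩
    show QuotientGroup.mk' _ u = QuotientGroup.mk' _ (w * u)
    rw [map_mul, show QuotientGroup.mk' _ w = 1 from (QuotientGroup.eq_one_iff w).mpr hw, one_mul]

end CfsgLib.LocalEvenB.JSeven
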