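import Cfsg.Agent.Lib.LocalEvenB.JSeven.Degree
import Cfsg.Agent.Lib.LocalEvenB.JSeven.Tate
import Cfsg.Agent.Lib.KGroups.Functor.KInfControl
import Cfsg.Agent.Lib.FusionSystem.ThompsonFactor

/-!
For `p ≥ 7` the normalizer of `J(S)` controls `p`-transfer.
-/

set_option autoImplicit false
set_option linter.unusedSectionVars false
set_option linter.style.haveILetI false

namespace CfsgLib.LocalEvenB.JSeven

open CfsgLib.KGroups.Functor
open scoped commutatorElement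

universe u

variable {G : Type u} [Group G] [Finite G] {p : ℕ} [Fact p.Prime]

local notation "ℭ" X:max => Subgroup.centralizer ((X : Subgroup G) : Set G)

theorem isCharPFunctor_jA (p : ℕ) : Cfsg.IsCharPFunctor.{u} p Fsys.jA :=
  ⟨fun Q _ _ hQ h => Fsys.jA_ne_bot Q hQ h, fun Q R _ _ _ hQ φ => Fsys.jA_map Q R hQ φ⟩

/-- The abelian subgroups of largest order, in the ambient group. -/
def IsTop (S X : Subgroup G) : Prop :=
  X ≤ S ∧ X ≤ ℭ X ∧ ∀ Y : Subgroup G, Y ≤ S → Y ≤ ℭ Y → Nat.card Y ≤ Nat.card X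

theorem isTop_map {S : Subgroup G} {B : Subgroup S} (hB : B ∈ Cfsg.maxAbelianSubgroups S) :
    IsTop S (B.map S.subtype) := by
  have := hB.1
  refine ⟨Subgroup.map_subtype_le B, Subgroup.le_centralizer_iff_isMulCommutative.mpr inferInstance, fun Y hY hYab => ?_⟩
  have := Subgroup.le_centralizer_iff_isMulCommutative.mp hYab
  have h := hB.2 (Y.subgroupOf S) inferInstance
  rwa [Nat.card_congr (Subgroup.subgroupOfEquivOfLe hY).toEquiv,
    ← Subgroup.card_map_of_injective S.subtype_injective] at h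

theorem exists_isTop (S : Subgroup G) : ∃ X, IsTop S X :=
  let ⟨_, hB⟩ := Fsys.exists_maxA S
  ⟨_, isTop_map hB⟩

theorem le_J {S X : Subgroup G} (hX : IsTop S X) : X ≤ Cfsg.thompsonSubgroupAOf S := by
  rw [← Subgroup.map_subgroupOf_eq_of_le hX.1]
  refine Subgroup.map_mono (le_sSup ⟨?_, fun B hB => ?_⟩)
  · have := Subgroup.le_centralizer_iff_isMulCommutative.mp hX.2.1
    infer_instance
  · have := hB
    have h := hX.2.2 (B.map S.subtype) (Subgroup.map_subtype_le B)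
      (Subgroup.le_centralizer_iff_isMulCommutative.mpr inferInstance)
    rwa [Subgroup.card_map_of_injective S.subtype_injective,
      ← Nat.card_congr (Subgroup.subgroupOfEquivOfLe hX.1).toEquiv] at h

/-- If all abelian subgroups of largest order lie in a normal subgroup of `S`, then `J(S)` is normal. -/
theorem J_normal {S P : Subgroup G} [hP : P.Normal] (hPS : P ≤ S) (h : ∀ X, IsTop S X → X ≤ P) :
    (Cfsg.thompsonSubgroupAOf S).Normal := by
  refine ⟨fun x hx g => ?_⟩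
  suffices h' : Cfsg.thompsonSubgroupAOf S ≤ (Cfsg.thompsonSubgroupAOf S).comap (MulAut.conj g).toMonoidHom from h' hx
  rw [Cfsg.thompsonSubgroupAOf, Subgroup.map_le_iff_le_comap, Cfsg.thompsonSubgroupA]
  refine sSup_le fun B hB => ?_
  rw [← Subgroup.map_le_iff_le_comap, ← Subgroup.map_le_iff_le_comap]
  have hT := isTop_map hB
  refine le_J ⟨?_, ?_, fun Y hY hYab => ?_⟩
  · refine le_trans ?_ hPS
    rintro _ ⟨y, hy, rfl⟩
    exact hP.conj_mem y (h _ hT hy) g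
  · rintro _ ⟨y, hy, rfl⟩
    rw [Subgroup.mem_centralizer_iff]
    rintro _ ⟨z, hz, rfl⟩
    rw [← map_mul, ← map_mul, comm_of_le hT.2.1 hz hy]
  · rw [Subgroup.card_map_of_injective (MulAut.conj g).injective]
    exact hT.2.2 Y hY hYab

theorem exists_setup {S P : Subgroup G} [P.Normal] (hS : IsPGroup p S) (hPS : P ≤ S)
    (h : ¬ ∀ X, IsTop S X → X ≤ P) : ∃ E A, Setup p S P E A := by
  push Not at h
  obtain ⟨X₀, hX₀, hX₀P⟩ := h
  obtain ⟨E, ⟨hEn, hEP, hEab⟩, hEmax⟩ := (Finite.to_wellFoundedGT).wf.has_min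
    {X : Subgroup G | X.Normal ∧ X ≤ P ∧ X ≤ ℭ X} ⟨⊥, inferInstance, bot_le, bot_le⟩
  obtain ⟨A₀, ⟨hA₀, hA₀P⟩, hmin⟩ := Set.exists_min_image {X : Subgroup G | IsTop S X ∧ ¬ X ≤ P}
    (fun X => Nat.card ↥(X ⊔ P)) (Set.toFinite _) ⟨X₀, hX₀, hX₀P⟩
  obtain ⟨A, ⟨hA, hAP, hAeq⟩, hmax⟩ := Set.exists_max_image {X : Subgroup G | IsTop S X ∧ ¬ X ≤ P ∧ X ⊔ P = A₀ ⊔ P}
    (fun X => Nat.card ↥(X ⊓ E)) (Set.toFinite _) ⟨A₀, hA₀, hA₀P, rfl⟩
  refine ⟨E, A, hS, inferInstance, hPS, hEn, hEP, hEab, fun X hX hEX hXP hXab => ?_, hA.1, hA.2.1, hA.2.2, hAP,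
    fun X hXS hXab hcard hXP hle => ?_, fun X hXS hXab hcard heq => ?_⟩
  · by_contra hlt
    exact hEmax X ⟨hX, hXP, hXab⟩ (lt_of_le_of_ne hEX fun e => hlt e.ge)
  · have hle' := hmin X ⟨⟨hXS, hXab, fun Y h1 h2 => hcard ▸ hA.2.2 Y h1 h2⟩, hXP⟩
    rw [hAeq] at hle ⊢
    exact (Subgroup.eq_of_le_of_card_ge hle hle').ge
  · refine hmax X ⟨⟨hXS, hXab, fun Y h1 h2 => hcard ▸ hA.2.2 Y h1 h2⟩, fun hXP => hAP ?_, heq.trans hAeq⟩
    calc A ≤ A ⊔ P := le_sup_left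
      _ = X ⊔ P := heq.symm
      _ ≤ P := sup_le hXP le_rfl

theorem controlsTransfer_jA (hp : 7 ≤ p) :
    Cfsg.ControlsTransferIn p (Cfsg.inducedFunctor (G := G) Fsys.jA) ⊤ := by
  have hW := isCharPFunctor_jA.{u} p
  have hsec : ∀ (K R : Subgroup G) [(R.subgroupOf K).Normal],
      Cfsg.ControlsTransferIn p (Cfsg.inducedFunctor (G := (↥K ⧸ R.subgroupOf K))
        Fsys.jA) ⊤ := by
    intro K R _
    refine Cfsg.Agent.S1972.result _ hW ?_ K R
    intro K' R' hR' _ T hn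
    haveI := hR'
    have hPn : (Cfsg.pCore p (↥K' ⧸ R'.subgroupOf K')).Normal := LocalEven.SylowIn.pCore_normal _ p
    have hPT : Cfsg.pCore p (↥K' ⧸ R'.subgroupOf K') ≤ (T : Subgroup (↥K' ⧸ R'.subgroupOf K')) :=
      Solvable.Cores.pCore_le_sylow T
    obtain ⟨E, A, s⟩ := exists_setup T.2 hPT (fun h => hn (J_normal hPT h))
    obtain ⟨g, hgA, hgP⟩ := SetLike.not_le_iff_exists.mp s.not_le
    refine ⟨g, s.A_le hgA, hgP, fun U V hUV hU => ?_⟩
    have := hUV.2.1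
    exact (PairDegree.iterCommutator_antitone U _ (by omega : 6 ≤ p - 1)).trans (degree_le_six s hgA hUV hU)
  obtain ⟨K, R, hR, ⟨e⟩⟩ := (sec_self G).exists_equiv
  have := hR
  obtain ⟨T, h1, h2, h3, h4⟩ := hsec K R
  obtain ⟨T', g1, g2, g3, g4⟩ := familyTransfer_of_equiv (𝓦 := {Fsys.jA})
    (fun V hV => Set.mem_singleton_iff.mp hV ▸ hW) e ⟨T, h1, h2, h3, by simpa [ind] using h4⟩
  exact ⟨T', g1, g2, g3, by simpa [ind] using g4⟩

/-- `S ∩ G' = S ∩ N(J(S))'` for `p ≥ 7`. -/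
theorem transfer (hp : 7 ≤ p) (S : Sylow p G) :
    (S : Subgroup G) ⊓ commutator G = (S : Subgroup G) ⊓
      ⁅Subgroup.normalizer (Cfsg.thompsonSubgroupAOf (S : Subgroup G) : Set G),
        Subgroup.normalizer (Cfsg.thompsonSubgroupAOf (S : Subgroup G) : Set G)⁆ :=
  transfer_at S (isCharPFunctor_jA.{u} p) (controlsTransfer_jA hp)

end CfsgLib.LocalEvenB.JSeven
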