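import Cfsg.Agent.Lib.LocalEvenB.JSeven.Deg
import Cfsg.Agent.Lib.LocalEvenB.CentrallyLarge

/-!
Replacement for an abelian subgroup of largest order with smallest image outside a normal `p`-subgroup.
-/

set_option autoImplicit false
set_option linter.unusedSectionVars false

namespace CfsgLib.LocalEvenB.JSeven

open scoped commutatorElement
open CfsgLib.LocalEvenB

variable {G : Type*} [Group G]

local notation "ℭ" X:max => Subgroup.centralizer ((X : Subgroup G) : Set G)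

theorem comm_of_le {X : Subgroup G} (h : X ≤ ℭ X) {x y : G} (hx : x ∈ X) (hy : y ∈ X) : x * y = y * x :=
  Subgroup.mem_centralizer_iff.mp (h hy) x hx

theorem centralizer_sup' (X Y : Subgroup G) : ℭ (X ⊔ Y) = ℭ X ⊓ ℭ Y :=
  eq_of_forall_le_iff fun D => by
    constructor
    · intro h
      have h' := Subgroup.le_centralizer_iff.mp h
      exact le_inf (Subgroup.le_centralizer_iff.mp (le_sup_left.trans h'))
        (Subgroup.le_centralizer_iff.mp (le_sup_right.trans h'))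
    · intro h
      exact Subgroup.le_centralizer_iff.mp (sup_le (Subgroup.le_centralizer_iff.mp (h.trans inf_le_left))
        (Subgroup.le_centralizer_iff.mp (h.trans inf_le_right)))

theorem sup_abelian {X Y : Subgroup G} (hX : X ≤ ℭ X) (hY : Y ≤ ℭ Y) (hXY : X ≤ ℭ Y) :
    X ⊔ Y ≤ ℭ (X ⊔ Y) := by
  have hYX : Y ≤ ℭ X := Subgroup.le_centralizer_iff.mp hXY
  rw [centralizer_sup']
  exact sup_le (le_inf hX hXY) (le_inf hYX hY)

theorem card_sup_of_commute [Finite G] {X Y : Subgroup G} (hXY : X ≤ ℭ Y) :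
    Nat.card ↥(X ⊔ Y) * Nat.card ↥(X ⊓ Y) = Nat.card X * Nat.card Y :=
  CentrallyLarge.card_of_set_mul (CentrallyLarge.set_mul_of_normalizer
    ((Subgroup.le_centralizer_iff.mp hXY).trans (Subgroup.centralizer_le_normalizer _)))

theorem exists_mul_of_commute [Finite G] {X Y : Subgroup G} (hXY : X ≤ ℭ Y) {u : G} (hu : u ∈ X ⊔ Y) :
    ∃ x ∈ X, ∃ y ∈ Y, x * y = u :=
  Set.mem_mul.mp ((CentrallyLarge.set_mul_of_normalizer
    ((Subgroup.le_centralizer_iff.mp hXY).trans (Subgroup.centralizer_le_normalizer _))) ▸ hu)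

/-- `A` is an abelian subgroup of largest order of `S`, chosen relative to the normal subgroup `P` and its maximal
normal abelian subgroup `E`. -/
structure Setup (p : ℕ) (S P E A : Subgroup G) : Prop where
  pgroup : IsPGroup p S
  P_normal : P.Normal
  P_le : P ≤ S
  E_normal : E.Normal
  E_le : E ≤ P
  E_ab : E ≤ ℭ E
  E_max : ∀ X : Subgroup G, X.Normal → E ≤ X → X ≤ P → X ≤ ℭ X → X ≤ E
  A_le : A ≤ S
  A_ab : A ≤ ℭ A
  A_max : ∀ X : Subgroup G, X ≤ S → X ≤ ℭ X → Nat.card X ≤ Nat.card A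
  not_le : ¬ A ≤ P
  A_min : ∀ X : Subgroup G, X ≤ S → X ≤ ℭ X → Nat.card X = Nat.card A → ¬ X ≤ P → X ⊔ P ≤ A ⊔ P → A ⊔ P ≤ X ⊔ P
  A_top : ∀ X : Subgroup G, X ≤ S → X ≤ ℭ X → Nat.card X = Nat.card A → X ⊔ P = A ⊔ P →
    Nat.card ↥(X ⊓ E) ≤ Nat.card ↥(A ⊓ E)

/-- An abelian subgroup of `P` normalized by `A`. -/
structure Amb (A P U : Subgroup G) : Prop where
  le : U ≤ P
  ab : U ≤ ℭ U
  norm : A ≤ Subgroup.normalizer (U : Set G)

/-- The subgroup generated by the differences of `b` along `A` and by `A ∩ U`. -/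
def Mb (A U : Subgroup G) (b : G) : Subgroup G := Subgroup.closure ((fun a => dl a b) '' (A : Set G)) ⊔ (A ⊓ U)

/-- The replacement has the order of `A`. -/
def Eq' (A U M : Subgroup G) : Prop :=
  A ⊓ U ≤ M ∧ M ≤ U ∧ Nat.card M * Nat.card ↥(A ⊓ ℭ M) = Nat.card A * Nat.card ↥(A ⊓ U)

theorem dl_mem_Mb {A U : Subgroup G} {a b : G} (ha : a ∈ A) : dl a b ∈ Mb A U b :=
  Subgroup.mem_sup_left (Subgroup.subset_closure ⟨a, ha, rfl⟩)

theorem dl_dl_mem_Mb {A U : Subgroup G} {a a' b : G} (ha : a ∈ A) (ha' : a' ∈ A) : dl a (dl a' b) ∈ Mb A U b := by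
  have e : dl a (dl a' b) = (dl a' b)⁻¹ * ((dl a b)⁻¹ * dl (a * a') b) := by
    rw [dl_mul_left, inv_mul_cancel_left, dl]
  rw [e]
  exact mul_mem (inv_mem (dl_mem_Mb ha')) (mul_mem (inv_mem (dl_mem_Mb ha)) (dl_mem_Mb (A.mul_mem ha ha')))

variable [Finite G] {p : ℕ} {S P E A : Subgroup G} (s : Setup p S P E A) {U M : Subgroup G}

include s

theorem mem_A {u : G} (hu : u ∈ S) (h : ∀ a ∈ A, a * u = u * a) : u ∈ A := by
  have hab : A ⊔ Subgroup.zpowers u ≤ ℭ (A ⊔ Subgroup.zpowers u) :=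
    sup_abelian s.A_ab (Subgroup.le_centralizer _) (Subgroup.le_centralizer_iff.mp (Subgroup.zpowers_le.mpr
      (Subgroup.mem_centralizer_iff.mpr h)))
  have hle : A ⊔ Subgroup.zpowers u ≤ S := sup_le s.A_le (Subgroup.zpowers_le.mpr hu)
  have := Subgroup.eq_of_le_of_card_ge (le_sup_left : A ≤ A ⊔ Subgroup.zpowers u) (s.A_max _ hle hab)
  rw [this]
  exact Subgroup.mem_sup_right (Subgroup.mem_zpowers u)

theorem dl_eq_one_of_mem_inf {a f : G} (ha : a ∈ A) (hf : f ∈ A) : dl a f = 1 := by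
  rw [dl_eq_one_iff, comm_of_le s.A_ab ha hf, mul_inv_cancel_right]

theorem mem_inf_of_fixed (hU : Amb A P U) {u : G} (hu : u ∈ U) (h : ∀ a ∈ A, dl a u = 1) : u ∈ A ⊓ U := by
  refine ⟨mem_A s (s.P_le (hU.le hu)) fun a ha => ?_, hu⟩
  exact mul_inv_eq_iff_eq_mul.mp (dl_eq_one_iff.mp (h a ha))

theorem inf_le_centralizer (hU : Amb A P U) (hM : M ≤ U) : A ⊓ U ≤ A ⊓ ℭ M :=
  le_inf inf_le_left ((inf_le_right.trans hU.ab).trans (Subgroup.centralizer_le hM))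

theorem inf_inf_eq (hU : Amb A P U) (h1 : A ⊓ U ≤ M) (h2 : M ≤ U) : M ⊓ (A ⊓ ℭ M) = A ⊓ U :=
  le_antisymm (le_inf (inf_le_right.trans inf_le_left) (inf_le_left.trans h2))
    (le_inf h1 (inf_le_centralizer s hU h2))

theorem rep_abelian {N D : Subgroup G} (hU : Amb A P U) (h2 : N ≤ U) (hD : D ≤ A) (hND : N ≤ ℭ D) :
    N ⊔ D ≤ S ∧ N ⊔ D ≤ ℭ (N ⊔ D) :=
  ⟨sup_le ((h2.trans hU.le).trans s.P_le) (hD.trans s.A_le),
    sup_abelian ((h2.trans hU.ab).trans (Subgroup.centralizer_le h2))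
      ((hD.trans s.A_ab).trans (Subgroup.centralizer_le hD)) hND⟩

theorem bound {N D : Subgroup G} (hU : Amb A P U) (h2 : N ≤ U) (hD : D ≤ A) (hND : N ≤ ℭ D) :
    Nat.card N * Nat.card D ≤ Nat.card A * Nat.card ↥(A ⊓ U) := by
  obtain ⟨hS, hab⟩ := rep_abelian s hU h2 hD hND
  rw [← card_sup_of_commute hND]
  exact Nat.mul_le_mul (s.A_max _ hS hab) (Subgroup.card_le_of_le (le_inf (inf_le_right.trans hD) (inf_le_left.trans h2)))

theorem rep (hU : Amb A P U) (hM : Eq' A U M) :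
    M ⊔ (A ⊓ ℭ M) ≤ S ∧ M ⊔ (A ⊓ ℭ M) ≤ ℭ (M ⊔ (A ⊓ ℭ M)) ∧ Nat.card ↥(M ⊔ (A ⊓ ℭ M)) = Nat.card A := by
  have hND : M ≤ ℭ (A ⊓ ℭ M) := Subgroup.le_centralizer_iff.mp inf_le_right
  obtain ⟨h1, h2⟩ := rep_abelian s hU hM.2.1 inf_le_left hND
  refine ⟨h1, h2, ?_⟩
  have := card_sup_of_commute hND
  rw [inf_inf_eq s hU hM.1 hM.2.1, hM.2.2] at this
  exact Nat.eq_of_mul_eq_mul_right Nat.card_pos this

/-- An element of `U` commuting with the replacement lies in it. -/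
theorem lever (hU : Amb A P U) (hM : Eq' A U M) {u : G} (hu : u ∈ U) (h : ∀ c ∈ A ⊓ ℭ M, c * u = u * c) : u ∈ M := by
  obtain ⟨h1, h2, h3⟩ := rep s hU hM
  have hcu : M ⊔ (A ⊓ ℭ M) ≤ ℭ (Subgroup.zpowers u) := by
    refine sup_le (fun m hm => ?_) (fun c hc => ?_) <;> rw [Subgroup.mem_centralizer_iff] <;> intro z hz
    · obtain ⟨k, rfl⟩ := Subgroup.mem_zpowers_iff.mp hz
      exact comm_of_le hU.ab (zpow_mem hu k) (hM.2.1 hm)
    · obtain ⟨k, rfl⟩ := Subgroup.mem_zpowers_iff.mp hz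
      exact ((Commute.zpow_right (h c hc) k)).eq.symm
  have hab := sup_abelian h2 (Subgroup.le_centralizer _) hcu
  have heq := Subgroup.eq_of_le_of_card_ge (le_sup_left : M ⊔ (A ⊓ ℭ M) ≤ _)
    (h3.symm ▸ s.A_max _ (sup_le h1 (Subgroup.zpowers_le.mpr (s.P_le (hU.le hu)))) hab)
  have humem : u ∈ M ⊔ (A ⊓ ℭ M) := heq ▸ Subgroup.mem_sup_right (Subgroup.mem_zpowers u)
  obtain ⟨m, hm, c, hc, rfl⟩ := exists_mul_of_commute (Subgroup.le_centralizer_iff.mp inf_le_right) humem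
  refine M.mul_mem hm (hM.1 ⟨hc.1, ?_⟩)
  have := U.mul_mem (U.inv_mem (hM.2.1 hm)) hu
  rwa [inv_mul_cancel_left] at this

/-- The centraliser in `A` of a replacement covers the image of `A`, unless it lies in `P`. -/
theorem sup_eq (hU : Amb A P U) (hM : Eq' A U M) (hC : ¬ A ⊓ ℭ M ≤ P) :
    (A ⊓ ℭ M) ⊔ P = A ⊔ P := by
  obtain ⟨h1, h2, h3⟩ := rep s hU hM
  have hXP : M ⊔ (A ⊓ ℭ M) ⊔ P = (A ⊓ ℭ M) ⊔ P := by
    rw [sup_comm M, sup_assoc, sup_eq_right.mpr (hM.2.1.trans hU.le)]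
  have hle : (A ⊓ ℭ M) ⊔ P ≤ A ⊔ P := sup_le_sup_right inf_le_left P
  refine le_antisymm hle (hXP ▸ s.A_min _ h1 h2 h3 (fun h => hC (le_sup_right.trans h)) (hXP ▸ hle))

theorem cover_eq (hU : Amb A P U) (hUE : U ≤ E) (hFE : A ⊓ E ≤ U) (hM : Eq' A U M) (hC : ¬ A ⊓ ℭ M ≤ P) :
    M = A ⊓ U := by
  obtain ⟨h1, h2, h3⟩ := rep s hU hM
  have hXP : M ⊔ (A ⊓ ℭ M) ⊔ P = A ⊔ P := by
    rw [sup_comm M, sup_assoc, sup_eq_right.mpr (hM.2.1.trans hU.le), sup_eq s hU hM hC]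
  refine (Subgroup.eq_of_le_of_card_ge hM.1 ?_).symm
  calc Nat.card M ≤ Nat.card ↥((M ⊔ (A ⊓ ℭ M)) ⊓ E) :=
        Subgroup.card_le_of_le (le_inf le_sup_left (hM.2.1.trans hUE))
    _ ≤ Nat.card ↥(A ⊓ E) := s.A_top _ h1 h2 h3 hXP
    _ ≤ Nat.card ↥(A ⊓ U) := Subgroup.card_le_of_le (le_inf inf_le_left hFE)

theorem amb_E : Amb A P E :=
  ⟨s.E_le, s.E_ab, fun a _ => have := s.E_normal; mem_normalizer_of_normal a⟩

theorem eq_inf (hU : Amb A P U) : Eq' A U (A ⊓ U) := by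
  refine ⟨le_rfl, inf_le_right, ?_⟩
  have : A ⊓ ℭ (A ⊓ U) = A := inf_eq_left.mpr (Subgroup.le_centralizer_iff.mp (inf_le_left.trans s.A_ab))
  rw [this, mul_comm]

theorem eq_sup (hU : Amb A P U) {M₁ M₂ : Subgroup G} (h₁ : Eq' A U M₁) (h₂ : Eq' A U M₂) :
    Eq' A U (M₁ ⊔ M₂) := by
  refine ⟨h₁.1.trans le_sup_left, sup_le h₁.2.1 h₂.2.1, ?_⟩
  have hMM : M₁ ≤ ℭ M₂ := (h₁.2.1.trans hU.ab).trans (Subgroup.centralizer_le h₂.2.1)
  have hCC : A ⊓ ℭ M₁ ≤ ℭ (A ⊓ ℭ M₂) := (inf_le_left.trans s.A_ab).trans (Subgroup.centralizer_le inf_le_left)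
  have e1 : A ⊓ ℭ (M₁ ⊔ M₂) = (A ⊓ ℭ M₁) ⊓ (A ⊓ ℭ M₂) := by
    rw [centralizer_sup', inf_inf_distrib_left]
  have b1 := bound s hU (sup_le h₁.2.1 h₂.2.1) inf_le_left
    (Subgroup.le_centralizer_iff.mp (inf_le_right : A ⊓ ℭ (M₁ ⊔ M₂) ≤ _))
  have b2 := bound s hU (inf_le_left.trans h₁.2.1 : M₁ ⊓ M₂ ≤ U) (sup_le inf_le_left inf_le_left)
    (Subgroup.le_centralizer_iff.mp (sup_le (inf_le_right.trans (Subgroup.centralizer_le inf_le_left))
      (inf_le_right.trans (Subgroup.centralizer_le inf_le_right)) : (A ⊓ ℭ M₁) ⊔ (A ⊓ ℭ M₂) ≤ ℭ (M₁ ⊓ M₂)))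
  rw [e1] at b1 ⊢
  have c1 := card_sup_of_commute hMM
  have c2 := card_sup_of_commute hCC
  refine le_antisymm b1 (Nat.le_of_mul_le_mul_right ?_ (Nat.mul_pos (Nat.card_pos (α := A)) (Nat.card_pos (α := ↥(A ⊓ U)))))
  refine le_trans (le_of_eq ?_) (Nat.mul_le_mul_left _ b2)
  calc _ = (Nat.card M₁ * Nat.card ↥(A ⊓ ℭ M₁)) * (Nat.card M₂ * Nat.card ↥(A ⊓ ℭ M₂)) := by rw [h₁.2.2, h₂.2.2]
    _ = (Nat.card M₁ * Nat.card M₂) * (Nat.card ↥(A ⊓ ℭ M₁) * Nat.card ↥(A ⊓ ℭ M₂)) := by ring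
    _ = _ := by rw [← c1, ← c2]; ring

theorem dl_commute {b a c : G} (hU : Amb A P U) (hb : b ∈ U) (ha : a ∈ A) (hc : c ∈ A) :
    dl c (dl a b) = dl a (dl c b) :=
  dl_comm (comm_of_le s.A_ab ha hc) (comm_of_le hU.ab (dl_mem (hU.norm hc) hb) (dl_mem (hU.norm ha) hb))

theorem mem_centralizer_Mb (hU : Amb A P U) {b c : G} (hb : b ∈ U) (hc : c ∈ A)
    (h : ∀ a ∈ A, dl c (dl a b) = 1) : c ∈ A ⊓ ℭ (Mb A U b) := by
  refine ⟨hc, ?_⟩
  rw [Mb, centralizer_sup']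
  refine ⟨?_, Subgroup.le_centralizer_iff.mp ((inf_le_left : A ⊓ U ≤ A).trans s.A_ab) hc⟩
  show c ∈ Subgroup.centralizer ((Subgroup.closure ((fun a => dl a b) '' (A : Set G)) : Subgroup G) : Set G)
  rw [Subgroup.centralizer_closure, Subgroup.mem_centralizer_iff]
  rintro _ ⟨a, ha, rfl⟩
  exact (mul_inv_eq_iff_eq_mul.mp (dl_eq_one_iff.mp (h a ha))).symm

theorem Mb_le (hU : Amb A P U) {b : G} (hb : b ∈ U) : Mb A U b ≤ U := by
  refine sup_le ((Subgroup.closure_le _).mpr ?_) inf_le_right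
  rintro _ ⟨a, ha, rfl⟩
  exact dl_mem (hU.norm ha) hb

/-- The single-element replacement, and the surjectivity it gives. -/
theorem eq_Mb (hU : Amb A P U) {b : G} (hb : b ∈ U) :
    Eq' A U (Mb A U b) ∧ ∀ m ∈ Mb A U b, ∃ c ∈ A, ∃ f ∈ A ⊓ U, m = dl c b * f := by
  classical
  set M := Mb A U b with hMdef
  set C := A ⊓ ℭ M
  have hMU : M ≤ U := Mb_le s hU hb
  have hFM : A ⊓ U ≤ M := le_sup_right
  have hfix : ∀ a ∈ A, ∀ f ∈ A ⊓ U, a * f * a⁻¹ = f := fun a ha f hf => by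
    rw [comm_of_le s.A_ab ha hf.1, mul_inv_cancel_right]
  let ψ : A ⧸ C.subgroupOf A → M ⧸ (A ⊓ U).subgroupOf M := fun q =>
    QuotientGroup.mk ⟨dl ((q.out : A) : G) b, dl_mem_Mb q.out.2⟩
  have key : ∀ a a' : A, (dl (a : G) b)⁻¹ * dl (a' : G) b ∈ A ⊓ U → (a : G)⁻¹ * a' ∈ C := by
    intro a a' h
    set g := (a : G)⁻¹ * a' with hg
    have hgA : g ∈ A := A.mul_mem (A.inv_mem a.2) a'.2
    have e : dl (a' : G) b = dl (a : G) b * ((a : G) * dl g b * (a : G)⁻¹) := by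
      rw [← dl_mul_left, hg, mul_inv_cancel_left]
    rw [e, inv_mul_cancel_left] at h
    have hd : dl g b ∈ A ⊓ U := by
      have := hfix _ (A.inv_mem a.2) _ h
      rw [← this] at h
      simpa [mul_assoc] using h
    exact mem_centralizer_Mb s hU hb hgA fun a'' ha'' => by
      rw [dl_commute s hU hb ha'' hgA, dl_eq_one_of_mem_inf s ha'' hd.1]
  have hinj : Function.Injective ψ := by
    intro q q' h
    have h' := key q.out q'.out (Subgroup.mem_subgroupOf.mp (QuotientGroup.eq.mp h))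
    rw [← QuotientGroup.out_eq' q, ← QuotientGroup.out_eq' q', QuotientGroup.eq, Subgroup.mem_subgroupOf]
    exact h'
  have hA := Subgroup.card_eq_card_quotient_mul_card_subgroup (C.subgroupOf A)
  have hM := Subgroup.card_eq_card_quotient_mul_card_subgroup ((A ⊓ U).subgroupOf M)
  rw [Nat.card_congr (Subgroup.subgroupOfEquivOfLe (inf_le_left : C ≤ A)).toEquiv] at hA
  rw [Nat.card_congr (Subgroup.subgroupOfEquivOfLe hFM).toEquiv] at hM
  have b1 := bound s hU hMU (inf_le_left : C ≤ A) (Subgroup.le_centralizer_iff.mp inf_le_right)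
  have hle := Nat.card_le_card_of_injective ψ hinj
  have heq : Nat.card M * Nat.card C = Nat.card A * Nat.card ↥(A ⊓ U) := by
    refine le_antisymm b1 ?_
    rw [hA, hM]
    nlinarith [Nat.mul_le_mul_right (Nat.card C * Nat.card ↥(A ⊓ U)) hle]
  have hcard : Nat.card (A ⧸ C.subgroupOf A) = Nat.card (M ⧸ (A ⊓ U).subgroupOf M) := by
    rw [hA, hM] at heq
    have hpos : 0 < Nat.card C * Nat.card ↥(A ⊓ U) := Nat.mul_pos Nat.card_pos Nat.card_pos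
    refine Nat.eq_of_mul_eq_mul_right hpos ?_
    linarith
  refine ⟨⟨hFM, hMU, heq⟩, fun m hm => ?_⟩
  obtain ⟨q, hq⟩ := ((Nat.bijective_iff_injective_and_card ψ).mpr ⟨hinj, hcard⟩).2 (QuotientGroup.mk ⟨m, hm⟩)
  refine ⟨q.out, q.out.2, (dl ((q.out : A) : G) b)⁻¹ * m, ?_, by rw [mul_inv_cancel_left]⟩
  exact Subgroup.mem_subgroupOf.mp (QuotientGroup.eq.mp hq)

/-- A replacement containing all `Mb b` for `b` in a set. -/
theorem exists_big (hU : Amb A P U) {T : Set G} (hT : T ⊆ U) :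
    ∃ M, Eq' A U M ∧ (∀ b ∈ T, Mb A U b ≤ M) ∧
      M ≤ Subgroup.closure {g | ∃ a ∈ A, ∃ b ∈ T, g = dl a b} ⊔ (A ⊓ U) := by
  induction T, Set.toFinite T using Set.Finite.induction_on with
  | empty => exact ⟨A ⊓ U, eq_inf s hU, fun b hb => hb.elim, le_sup_right⟩
  | @insert b T _ _ ih =>
    obtain ⟨M, h1, h2, h3⟩ := ih ((Set.subset_insert _ _).trans hT)
    refine ⟨M ⊔ Mb A U b, eq_sup s hU h1 (eq_Mb s hU (hT (Set.mem_insert _ _))).1, ?_, ?_⟩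
    · rintro c (rfl | hc)
      · exact le_sup_right
      · exact (h2 c hc).trans le_sup_left
    · refine sup_le (h3.trans (sup_le_sup_right (Subgroup.closure_mono ?_) _)) ?_
      · rintro g ⟨a, ha, c, hc, rfl⟩
        exact ⟨a, ha, c, Set.mem_insert_of_mem _ hc, rfl⟩
      · refine sup_le_sup_right (Subgroup.closure_mono ?_) _
        rintro g ⟨a, ha, rfl⟩
        exact ⟨a, ha, b, Set.mem_insert _ _, rfl⟩

end CfsgLib.LocalEvenB.JSeven
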